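import Mathlib
import Cfsg.Agent.Lib.Helper5.BNCoxeter
import Cfsg.Agent.Lib.Helper5.BNParabolic

/-!
# The generic Hecke algebra of the Weyl group of a (B,N)-pair, as operators on functions

For a function `u` on the distinguished generators with values in a commutative ring we define the
operators `Lop σ` and `Rop τ` of left and right multiplication by the generators of the generic
Hecke algebra on the functions on the Weyl group.  They commute and satisfy the quadratic relation.
-/

set_option autoImplicit false

namespace Cfsg.Agent.Lib.Helper5.Hecke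

open Cfsg Cfsg.Agent.Lib.Helper5.BN

variable {G : Type*} [Group G] (P : BNPair G)
variable {𝕜 : Type*} [CommRing 𝕜] (u : W P → 𝕜)

/-- left multiplication by the generator `T_σ` -/
noncomputable def Lop (σ : W P) : Module.End 𝕜 (W P → 𝕜) where
  toFun v := fun x =>
    if len P (σ * x) < len P x then v (σ * x) + (u σ - 1) * v x else u σ * v (σ * x)
  map_add' v v' := by
    funext x
    simp only [Pi.add_apply]
    split_ifs <;> ring
  map_smul' c v := by
    funext x
    simp only [Pi.smul_apply, smul_eq_mul, RingHom.id_apply]
    split_ifs <;> ring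

/-- right multiplication by the generator `T_τ` -/
noncomputable def Rop (τ : W P) : Module.End 𝕜 (W P → 𝕜) where
  toFun v := fun x =>
    if len P (x * τ) < len P x then v (x * τ) + (u τ - 1) * v x else u τ * v (x * τ)
  map_add' v v' := by
    funext x
    simp only [Pi.add_apply]
    split_ifs <;> ring
  map_smul' c v := by
    funext x
    simp only [Pi.smul_apply, smul_eq_mul, RingHom.id_apply]
    split_ifs <;> ring

theorem Lop_apply (σ : W P) (v : W P → 𝕜) (x : W P) :
    Lop P u σ v x =
      if len P (σ * x) < len P x then v (σ * x) + (u σ - 1) * v x else u σ * v (σ * x) := rfl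

theorem Rop_apply (τ : W P) (v : W P → 𝕜) (x : W P) :
    Rop P u τ v x =
      if len P (x * τ) < len P x then v (x * τ) + (u τ - 1) * v x else u τ * v (x * τ) := rfl

/-- the quadratic relation for `Lop` -/
theorem Lop_sq {σ : W P} (hσ : σ ∈ Sbar P) :
    Lop P u σ * Lop P u σ = (u σ - 1) • Lop P u σ + u σ • (1 : Module.End 𝕜 (W P → 𝕜)) := by
  apply LinearMap.ext
  intro v
  funext x
  simp only [Module.End.mul_apply, LinearMap.add_apply, LinearMap.smul_apply, Module.End.one_apply,
    Pi.add_apply, Pi.smul_apply, smul_eq_mul, Lop_apply, Sbar_mul_cancel P hσ]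
  have h3 := len_mul_ne P (w := x) hσ
  by_cases h1 : len P (σ * x) < len P x
  · have h2 : ¬ len P x < len P (σ * x) := by omega
    simp only [if_pos h1, if_neg h2]
    ring
  · have h2 : len P x < len P (σ * x) := by omega
    simp only [if_neg h1, if_pos h2]
    ring

/-- the quadratic relation for `Rop` -/
theorem Rop_sq {τ : W P} (hτ : τ ∈ Sbar P) :
    Rop P u τ * Rop P u τ = (u τ - 1) • Rop P u τ + u τ • (1 : Module.End 𝕜 (W P → 𝕜)) := by
  apply LinearMap.ext
  intro v
  funext x
  simp only [Module.End.mul_apply, LinearMap.add_apply, LinearMap.smul_apply, Module.End.one_apply,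
    Pi.add_apply, Pi.smul_apply, smul_eq_mul, Rop_apply, mul_Sbar_cancel P hτ]
  have h3 := len_mul_right_ne P (w := x) hτ
  by_cases h1 : len P (x * τ) < len P x
  · have h2 : ¬ len P x < len P (x * τ) := by omega
    simp only [if_pos h1, if_neg h2]
    ring
  · have h2 : len P x < len P (x * τ) := by omega
    simp only [if_neg h1, if_pos h2]
    ring

/-- the operators of left and of right multiplication commute -/
theorem Lop_Rop_comm (hu : ∀ σ ∈ Sbar P, ∀ τ ∈ Sbar P, ∀ w : W P, σ * w = w * τ → u σ = u τ)
    {σ τ : W P} (hσ : σ ∈ Sbar P) (hτ : τ ∈ Sbar P) :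
    Lop P u σ * Rop P u τ = Rop P u τ * Lop P u σ := by
  apply LinearMap.ext
  intro v
  funext x
  simp only [Module.End.mul_apply, Lop_apply, Rop_apply, ← mul_assoc]
  have hb1 := len_mul_le P hσ x
  have hb2 := len_le_mul P hσ x
  have hb3 := len_mul_ne P (w := x) hσ
  have hc1 := len_mul_right_le P hτ x
  have hc2 := len_le_mul_right P hτ x
  have hc3 := len_mul_right_ne P (w := x) hτ
  have hd1 := len_mul_right_le P hτ (σ * x)
  have hd2 := len_le_mul_right P hτ (σ * x)
  have hd3 := len_mul_right_ne P (w := σ * x) hτ
  have he1 := len_mul_le P hσ (x * τ)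
  have he2 := len_le_mul P hσ (x * τ)
  have he3 := len_mul_ne P (w := x * τ) hσ
  rw [← mul_assoc] at he1 he2 he3
  by_cases h1 : len P (σ * x) < len P x
  · by_cases h2 : len P (x * τ) < len P x
    · by_cases h3 : len P (σ * x * τ) < len P (σ * x)
      · have h4 : len P (σ * x * τ) < len P (x * τ) := by omega
        simp only [if_pos h1, if_pos h2, if_pos h3, if_pos h4]
        ring
      · have h4 : ¬ len P (σ * x * τ) < len P (x * τ) := by omega
        simp only [if_pos h1, if_pos h2, if_neg h3, if_neg h4]
        -- here `σ * x = x * τ`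
        have hb : len P (σ * x) < len P (σ * (σ * x)) := by
          rw [Sbar_mul_cancel P hσ]; exact h1
        have hb0 : σ * (σ * x * τ) = x * τ := by
          rw [mul_assoc σ x τ, Sbar_mul_cancel P hσ]
        have hb' : len P (σ * (σ * x * τ)) < len P (σ * x * τ) := by
          rw [hb0]; omega
        have e := Bprime P hσ hτ hb hb'
        rw [Sbar_mul_cancel P hσ] at e
        have huu := hu σ hσ τ hτ (σ * x) (by rw [Sbar_mul_cancel P hσ]; exact e)
        have e2 : x * τ = σ * x := by
          conv_lhs => rw [e]
          exact mul_Sbar_cancel P hτ (σ * x)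
        rw [← e, e2, huu]
    · by_cases h3 : len P (σ * x * τ) < len P (σ * x)
      · exfalso; omega
      · have h4 : len P (σ * x * τ) < len P (x * τ) := by omega
        simp only [if_pos h1, if_neg h2, if_neg h3, if_pos h4]
        ring
  · by_cases h2 : len P (x * τ) < len P x
    · by_cases h3 : len P (σ * x * τ) < len P (σ * x)
      · have h4 : ¬ len P (σ * x * τ) < len P (x * τ) := by omega
        simp only [if_neg h1, if_pos h2, if_pos h3, if_neg h4]
        ring
      · exfalso; omega
    · by_cases h3 : len P (σ * x * τ) < len P (σ * x)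
      · have h4 : len P (σ * x * τ) < len P (x * τ) := by omega
        simp only [if_neg h1, if_neg h2, if_pos h3, if_pos h4]
        -- here `σ * x = x * τ`
        have hb : len P x < len P (σ * x) := by omega
        have hb' : len P (σ * (x * τ)) < len P (x * τ) := by
          rw [← mul_assoc]; exact h4
        have e := Bprime P hσ hτ hb hb'
        have huu := hu σ hσ τ hτ x e
        rw [e, huu]
      · have h4 : ¬ len P (σ * x * τ) < len P (x * τ) := by omega
        simp only [if_neg h1, if_neg h2, if_neg h3, if_neg h4]
        ring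

end Cfsg.Agent.Lib.Helper5.Hecke
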