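import Mathlib
import Cfsg.Agent.Lib.Helper5.Hecke.Generic

/-!
# The Casimir operator of the generic Hecke algebra

The operators `TT w`, `TT' w` of left and right multiplication by the basis elements, defined
along reduced words, and the operator `Cas a = ∑ a w • TT w * TT' w`, whose image is central: it is
killed by all `Lop σ - Rop σ`.
-/

set_option autoImplicit false

namespace Cfsg.Agent.Lib.Helper5.Hecke

open Cfsg Cfsg.Agent.Lib.Helper5.BN

variable {G : Type*} [Group G] (P : BNPair G)
variable {𝕜 : Type*} [CommRing 𝕜] (u : W P → 𝕜)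

/-- the product of the left operators along a word -/
noncomputable def LL (K : List (W P)) : Module.End 𝕜 (W P → 𝕜) := (K.map (Lop P u)).prod

/-- the product of the right operators along a word -/
noncomputable def RR (K : List (W P)) : Module.End 𝕜 (W P → 𝕜) := (K.map (Rop P u)).prod

theorem LL_nil : LL P u [] = 1 := rfl

theorem RR_nil : RR P u [] = 1 := rfl

theorem LL_cons (σ : W P) (K : List (W P)) : LL P u (σ :: K) = Lop P u σ * LL P u K := by
  unfold LL; rw [List.map_cons, List.prod_cons]

theorem RR_cons (σ : W P) (K : List (W P)) : RR P u (σ :: K) = Rop P u σ * RR P u K := by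
  unfold RR; rw [List.map_cons, List.prod_cons]

section comm

variable (hu : ∀ σ ∈ Sbar P, ∀ τ ∈ Sbar P, ∀ w : W P, σ * w = w * τ → u σ = u τ)

include hu in
theorem Lop_RR_comm {σ : W P} (hσ : σ ∈ Sbar P) : ∀ J : List (W P), IsWord P J →
    Lop P u σ * RR P u J = RR P u J * Lop P u σ
  | [], _ => by rw [RR_nil, mul_one, one_mul]
  | τ :: J, h => by
    rw [isWord_cons] at h
    rw [RR_cons, ← mul_assoc, Lop_Rop_comm P u hu hσ h.1, mul_assoc, Lop_RR_comm hσ J h.2,
      mul_assoc]

include hu in
theorem LL_RR_comm : ∀ K : List (W P), IsWord P K → ∀ J : List (W P), IsWord P J →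
    LL P u K * RR P u J = RR P u J * LL P u K
  | [], _, J, _ => by rw [LL_nil, mul_one, one_mul]
  | σ :: K, h, J, hJ => by
    rw [isWord_cons] at h
    rw [LL_cons, mul_assoc, LL_RR_comm K h.2 J hJ, ← mul_assoc, Lop_RR_comm P u hu h.1 J hJ,
      mul_assoc]

include hu in
theorem Rop_LL_comm {τ : W P} (hτ : τ ∈ Sbar P) (K : List (W P)) (hK : IsWord P K) :
    Rop P u τ * LL P u K = LL P u K * Rop P u τ := by
  have := LL_RR_comm P u hu K hK [τ] (isWord_singleton P hτ)
  rw [RR_cons, RR_nil, mul_one] at this
  exact this.symm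

end comm

section single

variable [DecidableEq (W P)]

theorem Lop_single {σ w : W P} (hσ : σ ∈ Sbar P) (h : len P w < len P (σ * w)) :
    Lop P u σ (Pi.single w 1) = Pi.single (σ * w) 1 := by
  funext x
  rw [Lop_apply]
  by_cases hx : x = σ * w
  · subst hx
    rw [Sbar_mul_cancel P hσ, if_pos h, Pi.single_eq_same, Pi.single_eq_same,
      Pi.single_eq_of_ne, mul_zero, add_zero]
    intro e
    rw [e] at h
    exact lt_irrefl _ h
  · have h1 : σ * x ≠ w := by
      intro e
      apply hx
      rw [← e, Sbar_mul_cancel P hσ]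
    rw [Pi.single_eq_of_ne h1, Pi.single_eq_of_ne hx]
    by_cases hxw : x = w
    · subst hxw
      rw [if_neg (by omega), mul_zero]
    · rw [Pi.single_eq_of_ne hxw, mul_zero, mul_zero, add_zero, ite_self]

theorem Rop_single {τ w : W P} (hτ : τ ∈ Sbar P) (h : len P w < len P (w * τ)) :
    Rop P u τ (Pi.single w 1) = Pi.single (w * τ) 1 := by
  funext x
  rw [Rop_apply]
  by_cases hx : x = w * τ
  · subst hx
    rw [mul_Sbar_cancel P hτ, if_pos h, Pi.single_eq_same, Pi.single_eq_same,
      Pi.single_eq_of_ne, mul_zero, add_zero]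
    intro e
    rw [e] at h
    exact lt_irrefl _ h
  · have h1 : x * τ ≠ w := by
      intro e
      apply hx
      rw [← e, mul_Sbar_cancel P hτ]
    rw [Pi.single_eq_of_ne h1, Pi.single_eq_of_ne hx]
    by_cases hxw : x = w
    · subst hxw
      rw [if_neg (by omega), mul_zero]
    · rw [Pi.single_eq_of_ne hxw, mul_zero, mul_zero, add_zero, ite_self]

theorem LL_single : ∀ K : List (W P), IsReduced P K →
    LL P u K (Pi.single 1 1) = Pi.single K.prod 1
  | [], _ => by rw [LL_nil, List.prod_nil]; rfl
  | σ :: K, h => by
    have hσ : σ ∈ Sbar P := ((isWord_cons P).1 h.1).1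
    have h1 := len_lt_of_reduced_cons P h
    rw [List.prod_cons, Sbar_mul_cancel P hσ] at h1
    rw [LL_cons, Module.End.mul_apply, LL_single K (isReduced_tail P h),
      Lop_single P u hσ h1, List.prod_cons]

theorem RR_single : ∀ K : List (W P), IsReduced P K →
    RR P u K (Pi.single 1 1) = Pi.single K.reverse.prod 1
  | [], _ => by rw [RR_nil, List.reverse_nil, List.prod_nil]; rfl
  | σ :: K, h => by
    have hσ : σ ∈ Sbar P := ((isWord_cons P).1 h.1).1
    have hK := isReduced_tail P h
    have hr := isReduced_reverse P h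
    have hKr := isReduced_reverse P hK
    have h1 : len P K.reverse.prod < len P (K.reverse.prod * σ) := by
      have e1 := hr.2
      have e2 := hKr.2
      rw [List.reverse_cons, List.prod_append, List.prod_singleton, List.length_append,
        List.length_singleton] at e1
      omega
    rw [RR_cons, Module.End.mul_apply, RR_single K hK, Rop_single P u hσ h1,
      List.reverse_cons, List.prod_append, List.prod_singleton]

end single

end Cfsg.Agent.Lib.Helper5.Hecke
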