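import Mathlib
import Cfsg.Agent.Lib.Helper5.Hecke.Casimir

/-!
# The Casimir operator of the generic Hecke algebra, II
-/

set_option autoImplicit false

namespace Cfsg.Agent.Lib.Helper5.Hecke

open Cfsg Cfsg.Agent.Lib.Helper5.BN

variable {G : Type*} [Group G] (P : BNPair G)
variable {𝕜 : Type*} [CommRing 𝕜] (u : W P → 𝕜)
variable (hu : ∀ σ ∈ Sbar P, ∀ τ ∈ Sbar P, ∀ w : W P, σ * w = w * τ → u σ = u τ)

/-- a chosen reduced word -/
noncomputable def wd (w : W P) : List (W P) := Classical.choose (exists_reduced P w)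

theorem wd_isReduced (w : W P) : IsReduced P (wd P w) := by
  obtain ⟨h1, h2, h3⟩ := Classical.choose_spec (exists_reduced P w)
  exact ⟨h1, by unfold wd; rw [h2]; exact h3⟩

theorem wd_prod (w : W P) : (wd P w).prod = w :=
  (Classical.choose_spec (exists_reduced P w)).2.1

include hu in
/-- the operator along a reduced word depends only on the element -/
theorem LL_congr [Finite (W P)] {K K' : List (W P)} (hK : IsReduced P K) (hK' : IsReduced P K')
    (h : K.prod = K'.prod) : LL P u K = LL P u K' := by
  classical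
  apply LinearMap.pi_ext
  intro x c
  have hc : (Pi.single x c : W P → 𝕜) = c • Pi.single x 1 := by
    rw [← Pi.single_smul, smul_eq_mul, mul_one]
  rw [hc, map_smul, map_smul]
  congr 1
  -- `δ_x` is obtained from `δ_1` by right operators
  have hJ := isReduced_reverse P (wd_isReduced P x)
  have hx : (Pi.single x 1 : W P → 𝕜) = RR P u (wd P x).reverse (Pi.single 1 1) := by
    rw [RR_single P u _ hJ, List.reverse_reverse, wd_prod]
  rw [hx, ← Module.End.mul_apply, ← Module.End.mul_apply, LL_RR_comm P u hu K hK.1 _ hJ.1,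
    LL_RR_comm P u hu K' hK'.1 _ hJ.1, Module.End.mul_apply, Module.End.mul_apply,
    LL_single P u K hK, LL_single P u K' hK', h]

include hu in
theorem RR_congr [Finite (W P)] {K K' : List (W P)} (hK : IsReduced P K) (hK' : IsReduced P K')
    (h : K.prod = K'.prod) : RR P u K = RR P u K' := by
  classical
  apply LinearMap.pi_ext
  intro x c
  have hc : (Pi.single x c : W P → 𝕜) = c • Pi.single x 1 := by
    rw [← Pi.single_smul, smul_eq_mul, mul_one]
  rw [hc, map_smul, map_smul]
  congr 1
  have hJ := wd_isReduced P x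
  have hx : (Pi.single x 1 : W P → 𝕜) = LL P u (wd P x) (Pi.single 1 1) := by
    rw [LL_single P u _ hJ, wd_prod]
  have hr : K.reverse.prod = K'.reverse.prod := by
    rw [← word_prod_inv P hK.1, ← word_prod_inv P hK'.1, h]
  rw [hx, ← Module.End.mul_apply, ← Module.End.mul_apply, ← LL_RR_comm P u hu _ hJ.1 K hK.1,
    ← LL_RR_comm P u hu _ hJ.1 K' hK'.1, Module.End.mul_apply, Module.End.mul_apply,
    RR_single P u K hK, RR_single P u K' hK', hr]

/-- left multiplication by the basis element `T_w` -/
noncomputable def TT (w : W P) : Module.End 𝕜 (W P → 𝕜) := LL P u (wd P w)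

/-- right multiplication by the basis element `T_{w⁻¹}` -/
noncomputable def TT' (w : W P) : Module.End 𝕜 (W P → 𝕜) := RR P u (wd P w)

theorem isReduced_cons_of_lt {σ w : W P} (hσ : σ ∈ Sbar P) (h : len P w < len P (σ * w)) :
    IsReduced P (σ :: wd P w) := by
  have hw := wd_isReduced P w
  refine ⟨(isWord_cons P).2 ⟨hσ, hw.1⟩, ?_⟩
  rw [List.prod_cons, wd_prod, List.length_cons, hw.2, wd_prod]
  have := len_mul_le P hσ w
  omega

include hu in
theorem TT_mul [Finite (W P)] {σ w : W P} (hσ : σ ∈ Sbar P) (h : len P w < len P (σ * w)) :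
    TT P u (σ * w) = Lop P u σ * TT P u w := by
  unfold TT
  rw [← LL_cons]
  apply LL_congr P u hu (wd_isReduced P _) (isReduced_cons_of_lt P hσ h)
  rw [wd_prod, List.prod_cons, wd_prod]

include hu in
theorem TT'_mul [Finite (W P)] {σ w : W P} (hσ : σ ∈ Sbar P) (h : len P w < len P (σ * w)) :
    TT' P u (σ * w) = Rop P u σ * TT' P u w := by
  unfold TT'
  rw [← RR_cons]
  apply RR_congr P u hu (wd_isReduced P _) (isReduced_cons_of_lt P hσ h)
  rw [wd_prod, List.prod_cons, wd_prod]

variable [Fintype (W P)]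

/-- the Casimir operator with weights `a` -/
noncomputable def Cas (a : W P → 𝕜) : Module.End 𝕜 (W P → 𝕜) :=
  ∑ w : W P, a w • (TT P u w * TT' P u w)

include hu in
/-- the image of the Casimir operator is central -/
theorem Lop_mul_Cas (a : W P → 𝕜) {σ : W P} (hσ : σ ∈ Sbar P)
    (ha : ∀ w : W P, len P w < len P (σ * w) → a (σ * w) * u σ = a w) :
    Lop P u σ * Cas P u a = Rop P u σ * Cas P u a := by
  classical
  unfold Cas
  rw [Finset.mul_sum, Finset.mul_sum]
  -- pair `w` with `σ * w`
  have split : ∀ g : W P → Module.End 𝕜 (W P → 𝕜),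
      ∑ w : W P, g w = ∑ w ∈ Finset.univ.filter (fun w => len P w < len P (σ * w)),
        (g w + g (σ * w)) := by
    intro g
    rw [← Finset.sum_filter_add_sum_filter_not Finset.univ (fun w => len P w < len P (σ * w)) g,
      Finset.sum_add_distrib]
    congr 1
    apply Finset.sum_nbij' (fun w => σ * w) (fun w => σ * w)
    · intro w hw
      rw [Finset.mem_filter] at hw ⊢
      refine ⟨Finset.mem_univ _, ?_⟩
      rw [Sbar_mul_cancel P hσ]
      have := len_mul_ne P (w := w) hσ
      omega
    · intro w hw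
      rw [Finset.mem_filter] at hw ⊢
      refine ⟨Finset.mem_univ _, ?_⟩
      rw [Sbar_mul_cancel P hσ]
      omega
    · intro w _
      exact Sbar_mul_cancel P hσ w
    · intro w _
      exact Sbar_mul_cancel P hσ w
    · intro w _
      rw [Sbar_mul_cancel P hσ]
  rw [split, split]
  apply Finset.sum_congr rfl
  intro w hw
  rw [Finset.mem_filter] at hw
  have hlt := hw.2
  rw [TT_mul P u hu hσ hlt, TT'_mul P u hu hσ hlt, ← ha w hlt]
  have hw1 := (wd_isReduced P w).1
  have k2 : Rop P u σ * TT P u w = TT P u w * Rop P u σ := Rop_LL_comm P u hu hσ _ hw1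
  have k3 : Rop P u σ * Lop P u σ = Lop P u σ * Rop P u σ := (Lop_Rop_comm P u hu hσ hσ).symm
  have k1 := Lop_sq P u hσ
  have k4 := Rop_sq P u hσ
  apply LinearMap.ext
  intro v
  have e1 : ∀ z, Lop P u σ (Lop P u σ z) = (u σ - 1) • Lop P u σ z + u σ • z := by
    intro z
    have := congrArg (fun f => f z) k1
    simpa using this
  have e4 : ∀ z, Rop P u σ (Rop P u σ z) = (u σ - 1) • Rop P u σ z + u σ • z := by
    intro z
    have := congrArg (fun f => f z) k4
    simpa using this
  have e2 : ∀ z, Rop P u σ (TT P u w z) = TT P u w (Rop P u σ z) := by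
    intro z
    have := congrArg (fun f => f z) k2
    simpa using this
  have e3 : ∀ z, Rop P u σ (Lop P u σ z) = Lop P u σ (Rop P u σ z) := by
    intro z
    have := congrArg (fun f => f z) k3
    simpa using this
  simp only [Module.End.mul_apply, LinearMap.add_apply, LinearMap.smul_apply, map_add, map_smul,
    e1, e2, e3, e4]
  module

end Cfsg.Agent.Lib.Helper5.Hecke
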