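import Mathlib

/-!
# Semicontinuity of the rank of a matrix of polynomials
-/

set_option autoImplicit false

namespace Cfsg.Agent.Lib.Helper5.Hecke

open Polynomial Matrix Module

variable {m n : Type*} [Fintype m] [Fintype n]

/-- a matrix of rank `r` over a field has a non-zero `r × r` minor -/
theorem exists_minor {K : Type*} [Field K] (A : Matrix m n K) :
    ∃ (e1 : Fin A.rank → m) (e2 : Fin A.rank → n), (A.submatrix e1 e2).det ≠ 0 := by
  classical
  -- independent columns
  obtain ⟨f, hf1, -, hf3⟩ := Submodule.exists_fun_fin_finrank_span_eq K (Set.range A.col)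
  have hr : finrank K (Submodule.span K (Set.range A.col)) = A.rank :=
    (rank_eq_finrank_span_cols A).symm
  have hf1' : ∀ i : Fin A.rank, ∃ j : n, A.col j = f (Fin.cast hr.symm i) := fun i => hf1 _
  choose e2 he2 using hf1'
  have hB : LinearIndependent K (A.submatrix id e2).col := by
    have : (A.submatrix id e2).col = f ∘ Fin.cast hr.symm := by
      funext i
      rw [Function.comp_apply, ← he2 i]
      rfl
    rw [this]
    exact hf3.comp _ (Fin.cast_injective _)
  -- independent rows of the chosen columns
  have hBt : ((A.submatrix id e2)ᵀ).rank = A.rank := by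
    have := LinearIndependent.rank_matrix (M := (A.submatrix id e2)ᵀ) (by rw [row_transpose]; exact hB)
    rw [this, Fintype.card_fin]
  obtain ⟨g, hg1, -, hg3⟩ := Submodule.exists_fun_fin_finrank_span_eq K (Set.range ((A.submatrix id e2)ᵀ).col)
  have hr2 : finrank K (Submodule.span K (Set.range ((A.submatrix id e2)ᵀ).col)) = A.rank := by
    rw [← rank_eq_finrank_span_cols, hBt]
  have hg1' : ∀ i : Fin A.rank, ∃ j : m, ((A.submatrix id e2)ᵀ).col j = g (Fin.cast hr2.symm i) :=
    fun i => hg1 _
  choose e1 he1 using hg1'
  refine ⟨e1, e2, ?_⟩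
  have hD : LinearIndependent K ((A.submatrix e1 e2)ᵀ).col := by
    have : ((A.submatrix e1 e2)ᵀ).col = g ∘ Fin.cast hr2.symm := by
      funext i
      rw [Function.comp_apply, ← he1 i]
      rfl
    rw [this]
    exact hg3.comp _ (Fin.cast_injective _)
  have hunit := linearIndependent_cols_iff_isUnit.1 hD
  rw [isUnit_transpose] at hunit
  exact ((isUnit_iff_isUnit_det _).1 hunit).ne_zero

/-- the rank at a given point is attained at all but finitely many points -/
theorem rank_le_eval_cofinite (A : Matrix m n ℂ[X]) (t0 : ℂ) :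
    {t : ℂ | ¬ (A.map (eval t0)).rank ≤ (A.map (eval t)).rank}.Finite := by
  classical
  obtain ⟨e1, e2, hdet⟩ := exists_minor (A.map (eval t0))
  set p : ℂ[X] := (A.submatrix e1 e2).det with hp
  have hev : ∀ t : ℂ, eval t p = ((A.map (eval t)).submatrix e1 e2).det := by
    intro t
    have := (evalRingHom t).map_det (A.submatrix e1 e2)
    rw [coe_evalRingHom] at this
    rw [hp, this]
    rfl
  have hp0 : p ≠ 0 := by
    intro h0
    apply hdet
    rw [← hev, h0, eval_zero]
  apply Set.Finite.subset (Polynomial.finite_setOfPred_isRoot hp0)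
  intro t ht
  change ¬ (A.map (eval t0)).rank ≤ (A.map (eval t)).rank at ht
  change IsRoot p t
  by_contra hroot
  apply ht
  have hne : ((A.map (eval t)).submatrix e1 e2).det ≠ 0 := by
    rw [← hev]; exact hroot
  have hunit : IsUnit ((A.map (eval t)).submatrix e1 e2) :=
    (isUnit_iff_isUnit_det _).2 (isUnit_iff_ne_zero.2 hne)
  have h1 := rank_of_isUnit _ hunit
  rw [Fintype.card_fin] at h1
  calc (A.map (eval t0)).rank = ((A.map (eval t)).submatrix e1 e2).rank := h1.symm
    _ ≤ (A.map (eval t)).rank := rank_submatrix_le _ _ _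

/-- **Deformation lemma.** If `M * C = 0` identically and at the points `0` and `1` the kernel of
`M` equals the image of `C`, then `C` has the same rank at `0` and at `1`. -/
theorem rank_deform {l : Type*} [Fintype l] (M : Matrix l n ℂ[X])
    (C : Matrix n n ℂ[X]) (h : M * C = 0)
    (h0 : (C.map (eval 0)).rank + (M.map (eval 0)).rank = Fintype.card n)
    (h1 : (C.map (eval 1)).rank + (M.map (eval 1)).rank = Fintype.card n) :
    (C.map (eval 0)).rank = (C.map (eval 1)).rank := by
  have hfin := ((rank_le_eval_cofinite C 0).union (rank_le_eval_cofinite C 1)).union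
    ((rank_le_eval_cofinite M 0).union (rank_le_eval_cofinite M 1))
  obtain ⟨t, ht⟩ := hfin.exists_notMem
  have hc0 : (C.map (eval 0)).rank ≤ (C.map (eval t)).rank := by
    by_contra hcon; exact ht (Or.inl (Or.inl hcon))
  have hc1 : (C.map (eval 1)).rank ≤ (C.map (eval t)).rank := by
    by_contra hcon; exact ht (Or.inl (Or.inr hcon))
  have hm0 : (M.map (eval 0)).rank ≤ (M.map (eval t)).rank := by
    by_contra hcon; exact ht (Or.inr (Or.inl hcon))
  have hm1 : (M.map (eval 1)).rank ≤ (M.map (eval t)).rank := by
    by_contra hcon; exact ht (Or.inr (Or.inr hcon))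
  have hmul : M.map (eval t) * C.map (eval t) = 0 := by
    rw [← coe_evalRingHom, ← Matrix.map_mul, h]
    exact Matrix.map_zero _ (map_zero _)
  have hle := rank_add_rank_le_card_of_mul_eq_zero hmul
  omega

end Cfsg.Agent.Lib.Helper5.Hecke
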