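import Mathlib
import Cfsg.Agent.Lib.Helper5.Hecke.Casimir2
import Cfsg.Agent.Lib.Helper5.Hecke.Semicont

/-!
# The polynomial family of generic Hecke algebras: the centres at `1` and at `q` have the same
dimension
-/

set_option autoImplicit false

namespace Cfsg.Agent.Lib.Helper5.Hecke

open Cfsg Cfsg.Agent.Lib.Helper5.BN Module

variable {G : Type*} [Group G] (P : BNPair G)
variable {𝕜 : Type*} [CommRing 𝕜] (u : W P → 𝕜)

section weights

variable (hu : ∀ σ ∈ Sbar P, ∀ τ ∈ Sbar P, ∀ w : W P, σ * w = w * τ → u σ = u τ)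

/-- the constant function `1` is an eigenvector of `Lop σ` -/
theorem Lop_one (σ : W P) : Lop P u σ (fun _ => (1 : 𝕜)) = u σ • (fun _ => (1 : 𝕜)) := by
  funext x
  rw [Lop_apply, Pi.smul_apply, smul_eq_mul]
  split_ifs <;> ring

theorem LL_one : ∀ K : List (W P),
    LL P u K (fun _ => (1 : 𝕜)) = (K.map u).prod • (fun _ => (1 : 𝕜))
  | [] => by rw [LL_nil, List.map_nil, List.prod_nil, one_smul]; rfl
  | σ :: K => by
    rw [LL_cons, Module.End.mul_apply, LL_one K, map_smul, Lop_one, smul_smul, List.map_cons,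
      List.prod_cons, mul_comm]

include hu in
/-- the product of the parameters along a reduced word depends only on the element -/
theorem fprod_congr [Finite (W P)] {K K' : List (W P)} (hK : IsReduced P K)
    (hK' : IsReduced P K') (h : K.prod = K'.prod) : (K.map u).prod = (K'.map u).prod := by
  have e := LL_congr P u hu hK hK' h
  have e1 := congrArg (fun f => f (fun _ => (1 : 𝕜)) (1 : W P)) e
  simp only [LL_one, Pi.smul_apply, smul_eq_mul, mul_one] at e1
  exact e1

/-- the parameter of an element -/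
noncomputable def uw (w : W P) : 𝕜 := ((wd P w).map u).prod

include hu in
theorem uw_mul [Finite (W P)] {σ w : W P} (hσ : σ ∈ Sbar P) (h : len P w < len P (σ * w)) :
    uw P u (σ * w) = u σ * uw P u w := by
  unfold uw
  rw [← List.prod_cons, ← List.map_cons]
  apply fprod_congr P u hu (wd_isReduced P _) (isReduced_cons_of_lt P hσ h)
  rw [wd_prod, List.prod_cons, wd_prod]

variable [Fintype (W P)] [DecidableEq (W P)]

/-- the weights of the Casimir operator: the product of the parameters of the other elements -/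
noncomputable def wt (w : W P) : 𝕜 := ∏ x ∈ Finset.univ.erase w, uw P u x

include hu in
theorem wt_mul {σ w : W P} (hσ : σ ∈ Sbar P) (h : len P w < len P (σ * w)) :
    wt P u (σ * w) * u σ = wt P u w := by
  have hne : w ≠ σ * w := by
    intro e
    rw [← e] at h
    exact lt_irrefl _ h
  unfold wt
  have h1 : w ∈ Finset.univ.erase (σ * w) := Finset.mem_erase.2 ⟨hne, Finset.mem_univ _⟩
  have h2 : σ * w ∈ Finset.univ.erase w := Finset.mem_erase.2 ⟨hne.symm, Finset.mem_univ _⟩
  rw [← Finset.mul_prod_erase _ _ h1, ← Finset.mul_prod_erase _ _ h2, uw_mul P u hu hσ h,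
    Finset.erase_right_comm]
  ring

theorem wt_mul_uw (w : W P) : wt P u w * uw P u w = ∏ x : W P, uw P u x := by
  unfold wt
  rw [mul_comm]
  exact Finset.mul_prod_erase _ _ (Finset.mem_univ w)

end weights

/-! ### compatibility with ring homomorphisms -/

section compat

variable {𝕜' : Type*} [CommRing 𝕜'] (φ : 𝕜 →+* 𝕜')

/-- `f'` is the base change of `f` -/
def Compat (f : Module.End 𝕜 (W P → 𝕜)) (f' : Module.End 𝕜' (W P → 𝕜')) : Prop :=
  ∀ (v : W P → 𝕜) (x : W P), φ (f v x) = f' (fun y => φ (v y)) x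

theorem Compat.one : Compat P φ 1 1 := fun _ _ => rfl

theorem Compat.mul {f g : Module.End 𝕜 (W P → 𝕜)} {f' g' : Module.End 𝕜' (W P → 𝕜')}
    (hf : Compat P φ f f') (hg : Compat P φ g g') : Compat P φ (f * g) (f' * g') := by
  intro v x
  rw [Module.End.mul_apply, Module.End.mul_apply, hf]
  have e : (fun y => φ (g v y)) = g' (fun y => φ (v y)) := funext (fun y => hg v y)
  rw [e]

theorem Compat.add {f g : Module.End 𝕜 (W P → 𝕜)} {f' g' : Module.End 𝕜' (W P → 𝕜')}
    (hf : Compat P φ f f') (hg : Compat P φ g g') : Compat P φ (f + g) (f' + g') := by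
  intro v x
  rw [LinearMap.add_apply, LinearMap.add_apply, Pi.add_apply, Pi.add_apply, map_add, hf, hg]

theorem Compat.sub {f g : Module.End 𝕜 (W P → 𝕜)} {f' g' : Module.End 𝕜' (W P → 𝕜')}
    (hf : Compat P φ f f') (hg : Compat P φ g g') : Compat P φ (f - g) (f' - g') := by
  intro v x
  rw [LinearMap.sub_apply, LinearMap.sub_apply, Pi.sub_apply, Pi.sub_apply, map_sub, hf, hg]

theorem Compat.smul {f : Module.End 𝕜 (W P → 𝕜)} {f' : Module.End 𝕜' (W P → 𝕜')}
    (hf : Compat P φ f f') (c : 𝕜) : Compat P φ (c • f) (φ c • f') := by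
  intro v x
  rw [LinearMap.smul_apply, LinearMap.smul_apply, Pi.smul_apply, Pi.smul_apply, smul_eq_mul,
    smul_eq_mul, map_mul, hf]

theorem Compat.sum {ι : Type*} (s : Finset ι) {f : ι → Module.End 𝕜 (W P → 𝕜)}
    {f' : ι → Module.End 𝕜' (W P → 𝕜')} (hf : ∀ i ∈ s, Compat P φ (f i) (f' i)) :
    Compat P φ (∑ i ∈ s, f i) (∑ i ∈ s, f' i) := by
  classical
  induction s using Finset.induction_on with
  | empty =>
    intro v x
    simp
  | insert a s ha ih =>
    rw [Finset.sum_insert ha, Finset.sum_insert ha]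
    exact Compat.add P φ (hf a (Finset.mem_insert_self a s))
      (ih fun i hi => hf i (Finset.mem_insert_of_mem hi))

theorem compat_Lop (σ : W P) : Compat P φ (Lop P u σ) (Lop P (fun w => φ (u w)) σ) := by
  intro v x
  rw [Lop_apply, Lop_apply]
  split_ifs
  · rw [map_add, map_mul, map_sub, map_one]
  · rw [map_mul]

theorem compat_Rop (σ : W P) : Compat P φ (Rop P u σ) (Rop P (fun w => φ (u w)) σ) := by
  intro v x
  rw [Rop_apply, Rop_apply]
  split_ifs
  · rw [map_add, map_mul, map_sub, map_one]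
  · rw [map_mul]

theorem compat_LL : ∀ K : List (W P), Compat P φ (LL P u K) (LL P (fun w => φ (u w)) K)
  | [] => Compat.one P φ
  | σ :: K => by
    rw [LL_cons, LL_cons]
    exact Compat.mul P φ (compat_Lop P u φ σ) (compat_LL K)

theorem compat_RR : ∀ K : List (W P), Compat P φ (RR P u K) (RR P (fun w => φ (u w)) K)
  | [] => Compat.one P φ
  | σ :: K => by
    rw [RR_cons, RR_cons]
    exact Compat.mul P φ (compat_Rop P u φ σ) (compat_RR K)

theorem map_uw (w : W P) : φ (uw P u w) = uw P (fun x => φ (u x)) w := by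
  unfold uw
  rw [map_list_prod, List.map_map]
  rfl

variable [Fintype (W P)]

theorem compat_Cas (a : W P → 𝕜) :
    Compat P φ (Cas P u a) (Cas P (fun w => φ (u w)) (fun w => φ (a w))) := by
  unfold Cas
  apply Compat.sum
  intro w _
  apply Compat.smul
  exact Compat.mul P φ (compat_LL P u φ _) (compat_RR P u φ _)

variable [DecidableEq (W P)]

theorem map_wt (w : W P) : φ (wt P u w) = wt P (fun x => φ (u x)) w := by
  unfold wt
  rw [map_prod]
  apply Finset.prod_congr rfl
  intro x _
  exact map_uw P u φ x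

theorem Compat.toMatrix' {f : Module.End 𝕜 (W P → 𝕜)} {f' : Module.End 𝕜' (W P → 𝕜')}
    (hf : Compat P φ f f') : (LinearMap.toMatrix' f).map φ = LinearMap.toMatrix' f' := by
  ext i j
  rw [Matrix.map_apply, LinearMap.toMatrix'_apply, LinearMap.toMatrix'_apply, hf]
  have e : (fun y => φ ((Pi.single j 1 : W P → 𝕜) y)) = (Pi.single j 1 : W P → 𝕜') := by
    funext y
    by_cases h : y = j
    · subst h; simp
    · simp [Pi.single_eq_of_ne h]
  rw [e]

end compat

end Cfsg.Agent.Lib.Helper5.Hecke
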