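import Mathlib
import Cfsg.Agent.Lib.Helper5.Hecke.Family

/-!
# The centres of the generic Hecke algebra at `1` and at `q` have the same dimension
-/

set_option autoImplicit false

namespace Cfsg.Agent.Lib.Helper5.Hecke

open Cfsg Cfsg.Agent.Lib.Helper5.BN Module Polynomial

variable {G : Type*} [Group G] (P : BNPair G)
variable {𝕜 : Type*} [CommRing 𝕜] (u : W P → 𝕜)

/-- the centre: the functions on which left and right multiplication by the generators agree -/
def Zc : Submodule 𝕜 (W P → 𝕜) where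
  carrier := {v | ∀ σ ∈ Sbar P, Lop P u σ v = Rop P u σ v}
  add_mem' := by
    intro a b ha hb σ hσ
    rw [map_add, map_add, ha σ hσ, hb σ hσ]
  zero_mem' := by
    intro σ _
    rw [map_zero, map_zero]
  smul_mem' := by
    intro c a ha σ hσ
    rw [map_smul, map_smul, ha σ hσ]

theorem mem_Zc {v : W P → 𝕜} : v ∈ Zc P u ↔ ∀ σ ∈ Sbar P, Lop P u σ v = Rop P u σ v := Iff.rfl

variable [Fintype (W P)] [DecidableEq (W P)]

open Classical

/-- the matrix of all the differences `Lop σ - Rop σ` -/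
noncomputable def Mbig : Matrix (W P × W P) (W P) 𝕜 :=
  fun p w => if p.1 ∈ Sbar P then
    LinearMap.toMatrix' (Lop P u p.1 - Rop P u p.1) p.2 w else 0

theorem Mbig_mulVec (v : W P → 𝕜) (p : W P × W P) :
    (Mbig P u).mulVec v p =
      if p.1 ∈ Sbar P then (Lop P u p.1 v - Rop P u p.1 v) p.2 else 0 := by
  unfold Mbig
  by_cases h : p.1 ∈ Sbar P
  · rw [if_pos h]
    have : (fun w => if p.1 ∈ Sbar P then
        LinearMap.toMatrix' (Lop P u p.1 - Rop P u p.1) p.2 w else 0)
        = LinearMap.toMatrix' (Lop P u p.1 - Rop P u p.1) p.2 := by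
      funext w; rw [if_pos h]
    change (fun w => if p.1 ∈ Sbar P then
        LinearMap.toMatrix' (Lop P u p.1 - Rop P u p.1) p.2 w else 0) ⬝ᵥ v = _
    rw [this]
    have e := congrFun (LinearMap.toMatrix'_mulVec (Lop P u p.1 - Rop P u p.1) v) p.2
    rw [LinearMap.sub_apply] at e
    exact e
  · rw [if_neg h]
    change (fun w => if p.1 ∈ Sbar P then
        LinearMap.toMatrix' (Lop P u p.1 - Rop P u p.1) p.2 w else 0) ⬝ᵥ v = _
    have : (fun w => if p.1 ∈ Sbar P then
        LinearMap.toMatrix' (Lop P u p.1 - Rop P u p.1) p.2 w else 0) = 0 := by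
      funext w; rw [if_neg h]; rfl
    rw [this, zero_dotProduct]

theorem ker_Mbig : LinearMap.ker (Mbig P u).mulVecLin = Zc P u := by
  ext v
  rw [LinearMap.mem_ker, Matrix.mulVecLin_apply, mem_Zc]
  constructor
  · intro h σ hσ
    funext x
    have := congrFun h (σ, x)
    rw [Mbig_mulVec, if_pos hσ, Pi.zero_apply, Pi.sub_apply, sub_eq_zero] at this
    exact this
  · intro h
    funext p
    rw [Mbig_mulVec, Pi.zero_apply]
    by_cases hp : p.1 ∈ Sbar P
    · rw [if_pos hp, h p.1 hp, sub_self, Pi.zero_apply]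
    · rw [if_neg hp]

theorem Mbig_mul_toMatrix' (f : Module.End 𝕜 (W P → 𝕜))
    (hf : ∀ σ ∈ Sbar P, Lop P u σ * f = Rop P u σ * f) :
    Mbig P u * LinearMap.toMatrix' f = 0 := by
  ext p y
  rw [Matrix.mul_apply, Matrix.zero_apply]
  unfold Mbig
  by_cases hp : p.1 ∈ Sbar P
  · simp only [if_pos hp]
    rw [← Matrix.mul_apply, ← LinearMap.toMatrix'_mul, sub_mul, hf p.1 hp, sub_self]
    rfl
  · simp only [if_neg hp, zero_mul, Finset.sum_const_zero]

theorem map_Mbig {𝕜' : Type*} [CommRing 𝕜'] (φ : 𝕜 →+* 𝕜') :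
    (Mbig P u).map φ = Mbig P (fun w => φ (u w)) := by
  ext p w
  rw [Matrix.map_apply]
  unfold Mbig
  by_cases hp : p.1 ∈ Sbar P
  · rw [if_pos hp, if_pos hp]
    have := Compat.toMatrix' P φ (Compat.sub P φ (compat_Lop P u φ p.1) (compat_Rop P u φ p.1))
    have e := congrFun (congrFun this p.2) w
    rw [Matrix.map_apply] at e
    exact e
  · rw [if_neg hp, if_neg hp, map_zero]

theorem rank_toMatrix' {K : Type*} [Field K] (f : Module.End K (W P → K)) :
    (LinearMap.toMatrix' f).rank = finrank K (LinearMap.range f) := by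
  unfold Matrix.rank
  rw [← Matrix.toLin'_apply', Matrix.toLin'_toMatrix']

theorem rank_Mbig {K : Type*} [Field K] (u : W P → K) :
    (Mbig P u).rank + finrank K (Zc P u) = Fintype.card (W P) := by
  unfold Matrix.rank
  rw [← ker_Mbig, LinearMap.finrank_range_add_finrank_ker, Module.finrank_fintype_fun_eq_card]

/-- **The centres at `1` and at `q` have the same dimension.** -/
theorem finrank_Zc_eq (qc : W P → ℂ)
    (hqc : ∀ σ ∈ Sbar P, ∀ τ ∈ Sbar P, ∀ w : W P, σ * w = w * τ → qc σ = qc τ)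
    (h0 : LinearMap.range (Cas P (fun _ => (1 : ℂ)) (wt P (fun _ => (1 : ℂ))))
      = Zc P (fun _ => (1 : ℂ)))
    (h1 : LinearMap.range (Cas P qc (wt P qc)) = Zc P qc) :
    finrank ℂ (Zc P (fun _ : W P => (1 : ℂ))) = finrank ℂ (Zc P qc) := by
  set uX : W P → ℂ[X] := fun σ => 1 + X * Polynomial.C (qc σ - 1) with huX
  have hu : ∀ σ ∈ Sbar P, ∀ τ ∈ Sbar P, ∀ w : W P, σ * w = w * τ → uX σ = uX τ := by
    intro σ hσ τ hτ w hw
    rw [huX]
    simp only
    rw [hqc σ hσ τ hτ w hw]
  have e0 : (fun w => (evalRingHom (0 : ℂ)) (uX w)) = fun _ => (1 : ℂ) := by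
    funext w
    simp [huX]
  have e1 : (fun w => (evalRingHom (1 : ℂ)) (uX w)) = qc := by
    funext w
    simp [huX]
  have hMC : Mbig P uX * LinearMap.toMatrix' (Cas P uX (wt P uX)) = 0 := by
    apply Mbig_mul_toMatrix'
    intro σ hσ
    exact Lop_mul_Cas P uX hu (wt P uX) hσ (fun w hw => wt_mul P uX hu hσ hw)
  have hM : ∀ t : ℂ, (Mbig P uX).map (eval t) = Mbig P (fun w => evalRingHom t (uX w)) := by
    intro t
    rw [← coe_evalRingHom, map_Mbig]
  have hC : ∀ t : ℂ, (LinearMap.toMatrix' (Cas P uX (wt P uX))).map (eval t)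
      = LinearMap.toMatrix' (Cas P (fun w => evalRingHom t (uX w))
          (wt P (fun w => evalRingHom t (uX w)))) := by
    intro t
    rw [← coe_evalRingHom, Compat.toMatrix' P (evalRingHom t) (compat_Cas P uX (evalRingHom t) _)]
    congr 2
    funext w
    exact map_wt P uX (evalRingHom t) w
  have key := rank_deform (Mbig P uX) (LinearMap.toMatrix' (Cas P uX (wt P uX))) hMC
    (by rw [hM, hC, e0, rank_toMatrix', h0]; rw [add_comm]; exact rank_Mbig P _)
    (by rw [hM, hC, e1, rank_toMatrix', h1]; rw [add_comm]; exact rank_Mbig P _)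
  rw [hC, hC, e0, e1, rank_toMatrix', rank_toMatrix', h0, h1] at key
  exact key

end Cfsg.Agent.Lib.Helper5.Hecke
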