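import Mathlib
import Cfsg.Agent.Lib.Helper5.Hecke.Family2
import Cfsg.Agent.Lib.helper3.Irr7

/-!
# The generic Hecke algebra at the parameter `1`: the group algebra of the Weyl group
-/

set_option autoImplicit false

namespace Cfsg.Agent.Lib.Helper5.Hecke

open Cfsg Cfsg.Agent.Lib.Helper5.BN Module

variable {G : Type*} [Group G] (P : BNPair G)

section general

variable {𝕜 : Type*} [CommRing 𝕜] (u : W P → 𝕜)
variable (hu : ∀ σ ∈ Sbar P, ∀ τ ∈ Sbar P, ∀ w : W P, σ * w = w * τ → u σ = u τ)
variable [Fintype (W P)] [DecidableEq (W P)]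

include hu in
/-- the image of the Casimir operator lies in the centre -/
theorem range_Cas_le_Zc : LinearMap.range (Cas P u (wt P u)) ≤ Zc P u := by
  rintro _ ⟨v, rfl⟩
  rw [mem_Zc]
  intro σ hσ
  have := Lop_mul_Cas P u hu (wt P u) hσ (fun w hw => wt_mul P u hu hσ hw)
  have e := congrArg (fun f => f v) this
  simpa using e

end general

section one

variable {𝕜 : Type*} [CommRing 𝕜]

theorem Lop_one_apply (σ : W P) (v : W P → 𝕜) (x : W P) :
    Lop P (fun _ => (1 : 𝕜)) σ v x = v (σ * x) := by
  rw [Lop_apply]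
  split_ifs <;> ring

theorem Rop_one_apply (σ : W P) (v : W P → 𝕜) (x : W P) :
    Rop P (fun _ => (1 : 𝕜)) σ v x = v (x * σ) := by
  rw [Rop_apply]
  split_ifs <;> ring

theorem LL_one_apply : ∀ (K : List (W P)) (v : W P → 𝕜) (x : W P),
    LL P (fun _ => (1 : 𝕜)) K v x = v (K.reverse.prod * x)
  | [], v, x => by rw [LL_nil, List.reverse_nil, List.prod_nil, one_mul]; rfl
  | σ :: K, v, x => by
    rw [LL_cons, Module.End.mul_apply, Lop_one_apply, LL_one_apply K, List.reverse_cons,
      List.prod_append, List.prod_singleton, mul_assoc]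

theorem RR_one_apply : ∀ (K : List (W P)) (v : W P → 𝕜) (x : W P),
    RR P (fun _ => (1 : 𝕜)) K v x = v (x * K.prod)
  | [], v, x => by rw [RR_nil, List.prod_nil, mul_one]; rfl
  | σ :: K, v, x => by
    rw [RR_cons, Module.End.mul_apply, Rop_one_apply, RR_one_apply K, List.prod_cons, mul_assoc]

theorem uw_one (w : W P) : uw P (fun _ => (1 : 𝕜)) w = 1 := by
  unfold uw
  simp

variable [Fintype (W P)] [DecidableEq (W P)]

theorem wt_one (w : W P) : wt P (fun _ => (1 : 𝕜)) w = 1 := by
  unfold wt
  simp [uw_one]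

theorem Cas_one_apply (v : W P → 𝕜) (x : W P) :
    Cas P (fun _ => (1 : 𝕜)) (wt P (fun _ => (1 : 𝕜))) v x = ∑ w : W P, v (w⁻¹ * x * w) := by
  unfold Cas
  rw [LinearMap.sum_apply, Finset.sum_apply]
  apply Finset.sum_congr rfl
  intro w _
  rw [LinearMap.smul_apply, Pi.smul_apply, wt_one, one_smul, Module.End.mul_apply]
  unfold TT TT'
  rw [LL_one_apply, RR_one_apply, ← word_prod_inv P (wd_isReduced P w).1, wd_prod]

end one

variable [Fintype (W P)] [DecidableEq (W P)]

open Cfsg.Agent.Lib.helper3.Irr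

theorem Zc_one : Zc P (fun _ : W P => (1 : ℂ)) = classFunctionSubmodule (W P) := by
  ext v
  rw [mem_Zc, mem_classFunctionSubmodule]
  constructor
  · intro h g a
    have hx : ∀ σ ∈ Sbar P, ∀ x : W P, v (σ * x) = v (x * σ) := by
      intro σ hσ x
      have := congrFun (h σ hσ) x
      rwa [Lop_one_apply, Rop_one_apply] at this
    have hmem : a ∈ Subgroup.closure (Sbar P) := by rw [closure_Sbar]; exact Subgroup.mem_top a
    revert g
    induction hmem using Subgroup.closure_induction with
    | mem σ hσ =>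
      intro g
      have := hx σ hσ (g * σ)
      rw [mul_Sbar_cancel P hσ, ← mul_assoc] at this
      rw [Sbar_inv P hσ]
      exact this
    | one => intro g; simp
    | mul a b _ _ iha ihb =>
      intro g
      have : a * b * g * (a * b)⁻¹ = a * (b * g * b⁻¹) * a⁻¹ := by group
      rw [this, iha, ihb]
    | inv a _ iha =>
      intro g
      have := iha (a⁻¹ * g * a⁻¹⁻¹)
      rw [← this]
      congr 1
      group
  · intro h σ hσ
    funext x
    rw [Lop_one_apply, Rop_one_apply]
    have := h (x * σ) σ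
    rw [← this, Sbar_inv P hσ, ← mul_assoc, mul_Sbar_cancel P hσ]

theorem range_Cas_one :
    LinearMap.range (Cas P (fun _ => (1 : ℂ)) (wt P (fun _ => (1 : ℂ))))
      = Zc P (fun _ => (1 : ℂ)) := by
  apply le_antisymm
  · exact range_Cas_le_Zc P _ (fun _ _ _ _ _ _ => rfl)
  · intro v hv
    rw [Zc_one, mem_classFunctionSubmodule] at hv
    have hcard : (Fintype.card (W P) : ℂ) ≠ 0 := Nat.cast_ne_zero.2 Fintype.card_ne_zero
    refine ⟨(Fintype.card (W P) : ℂ)⁻¹ • v, ?_⟩
    funext x
    rw [map_smul, Pi.smul_apply, Cas_one_apply, smul_eq_mul]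
    have : ∀ w : W P, v (w⁻¹ * x * w) = v x := by
      intro w
      have := hv x w⁻¹
      rwa [inv_inv] at this
    rw [Finset.sum_congr rfl (fun w _ => this w), Finset.sum_const, Finset.card_univ, nsmul_eq_mul,
      ← mul_assoc, inv_mul_cancel₀ hcard, one_mul]

theorem finrank_Zc_one :
    finrank ℂ (Zc P (fun _ : W P => (1 : ℂ))) = Nat.card (ConjClasses (W P)) := by
  classical
  let _ : Fintype (ConjClasses (W P)) := Fintype.ofFinite _
  rw [Zc_one, ← range_funLeft_mk]
  have hinj : Function.Injective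
      (LinearMap.funLeft ℂ ℂ (ConjClasses.mk : W P → ConjClasses (W P))) :=
    LinearMap.funLeft_injective_of_surjective ℂ ℂ _ ConjClasses.mk_surjective
  rw [LinearMap.finrank_range_of_inj hinj, Module.finrank_fintype_fun_eq_card,
    Nat.card_eq_fintype_card]

end Cfsg.Agent.Lib.Helper5.Hecke
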