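import Mathlib
import Cfsg.Agent.Lib.Helper5.Hecke.Zero
import Cfsg.Agent.Lib.Helper5.FHData.Mat

/-!
# The generic Hecke algebra at the index parameters: the commutant of the permutation module

`iota v` is the matrix `(x, y) ↦ v (dist x y)` on `G ⧸ B`; it turns the operators `Lop`, `Rop`
at the parameters `qc` into left and right multiplication by the adjacency matrices.
-/

set_option autoImplicit false

namespace Cfsg.Agent.Lib.Helper5.Hecke

open Cfsg Cfsg.Agent.Lib.Helper5.BN Cfsg.Agent.Lib.Helper5.FHData Module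

variable {G : Type*} [Group G] (P : BNPair G)

/-- the index parameters, as complex numbers -/
noncomputable def qc (w : W P) : ℂ := (q P w : ℂ)

/-- complexified adjacency matrix -/
noncomputable def AwC (w : W P) : Matrix (G ⧸ P.B) (G ⧸ P.B) ℂ :=
  (Aw P w).map Complex.ofRealHom

open Classical in
theorem AwC_apply (w : W P) (x y : G ⧸ P.B) :
    AwC P w x y = if dist P x y = w then 1 else 0 := by
  unfold AwC
  rw [Matrix.map_apply, Aw_apply]
  split_ifs <;> simp

theorem AwC_transpose (w : W P) : (AwC P w).transpose = AwC P w⁻¹ := by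
  unfold AwC
  rw [← Matrix.transpose_map, Aw_transpose]

/-- the linear map from functions on `W` to matrices -/
noncomputable def iota : (W P → ℂ) →ₗ[ℂ] Matrix (G ⧸ P.B) (G ⧸ P.B) ℂ where
  toFun v := Matrix.of fun x y => v (dist P x y)
  map_add' _ _ := rfl
  map_smul' _ _ := rfl

theorem iota_apply (v : W P → ℂ) (x y : G ⧸ P.B) : iota P v x y = v (dist P x y) := rfl

theorem iota_single [DecidableEq (W P)] (w : W P) : iota P (Pi.single w 1) = AwC P w := by
  classical
  ext x y
  rw [iota_apply, AwC_apply, Pi.single_apply]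
  by_cases h : dist P x y = w <;> simp [h]

theorem iota_inv (v : W P → ℂ) : iota P (fun w => v w⁻¹) = (iota P v).transpose := by
  ext x y
  rw [Matrix.transpose_apply, iota_apply, iota_apply, dist_symm P x y]

section generic

variable {𝕜 : Type*} [CommRing 𝕜] (u : W P → 𝕜)

theorem Lop_single' [DecidableEq (W P)] {σ w : W P} (hσ : σ ∈ Sbar P)
    (h : len P (σ * w) < len P w) :
    Lop P u σ (Pi.single w 1) = u σ • Pi.single (σ * w) 1 + (u σ - 1) • Pi.single w 1 := by
  funext x
  rw [Lop_apply, Pi.add_apply, Pi.smul_apply, Pi.smul_apply, smul_eq_mul, smul_eq_mul]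
  by_cases hx : x = w
  · subst hx
    have h1 : σ * x ≠ x := fun e => by rw [e] at h; exact lt_irrefl _ h
    rw [if_pos h, Pi.single_eq_of_ne h1, Pi.single_eq_same, Pi.single_eq_of_ne (Ne.symm h1)]
    ring
  · by_cases hx2 : x = σ * w
    · subst hx2
      rw [Sbar_mul_cancel P hσ, if_neg (by omega), Pi.single_eq_same, Pi.single_eq_same,
        Pi.single_eq_of_ne hx]
      ring
    · have h1 : σ * x ≠ w := fun e => hx2 (by rw [← e, Sbar_mul_cancel P hσ])
      rw [Pi.single_eq_of_ne h1, Pi.single_eq_of_ne hx, Pi.single_eq_of_ne hx2]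
      split_ifs <;> ring

theorem Rop_eq_Lop_inv {τ : W P} (hτ : τ ∈ Sbar P) (v : W P → 𝕜) :
    Rop P u τ v = fun x => Lop P u τ (fun w => v w⁻¹) x⁻¹ := by
  funext x
  rw [Rop_apply, Lop_apply]
  have e1 : τ * x⁻¹ = (x * τ)⁻¹ := by rw [mul_inv_rev, Sbar_inv P hτ]
  simp only [e1, len_inv, inv_inv]

end generic

variable [Fintype (G ⧸ P.B)]

theorem AwC_mul {σ w : W P} (hσ : σ ∈ Sbar P) (hlt : len P w < len P (σ * w)) :
    AwC P σ * AwC P w = AwC P (σ * w) := by
  unfold AwC
  rw [← Matrix.map_mul, Aw_mul P hσ hlt]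

variable [DecidableEq (G ⧸ P.B)]

omit [Fintype (G ⧸ P.B)] in
theorem AwC_one : AwC P 1 = 1 := by
  classical
  ext x y
  rw [AwC_apply, Matrix.one_apply]
  simp only [dist_eq_one_iff]

theorem AwC_sq {σ : W P} (hσ : σ ∈ Sbar P) :
    AwC P σ * AwC P σ =
      qc P σ • (1 : Matrix (G ⧸ P.B) (G ⧸ P.B) ℂ) + (qc P σ - 1) • AwC P σ := by
  unfold AwC
  rw [← Matrix.map_mul, Aw_sq P hσ]
  ext x y
  simp only [Matrix.map_apply, Matrix.add_apply, Matrix.smul_apply, smul_eq_mul,
    Matrix.one_apply, qc]
  by_cases hxy : x = y <;> simp [hxy]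

variable [Finite (W P)]

theorem iota_Lop {σ : W P} (hσ : σ ∈ Sbar P) (v : W P → ℂ) :
    iota P (Lop P (qc P) σ v) = AwC P σ * iota P v := by
  classical
  have key : (iota P).comp (Lop P (qc P) σ)
      = (LinearMap.mulLeft ℂ (AwC P σ)).comp (iota P) := by
    apply LinearMap.pi_ext'
    intro w
    apply LinearMap.ext_ring
    simp only [LinearMap.comp_apply, LinearMap.single_apply, LinearMap.mulLeft_apply]
    rcases lt_or_gt_of_ne (len_mul_ne P (w := w) hσ) with h | h
    · rw [Lop_single' P (qc P) hσ h, map_add, map_smul, map_smul, iota_single, iota_single]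
      have hw : AwC P w = AwC P σ * AwC P (σ * w) := by
        rw [AwC_mul P hσ (by rw [Sbar_mul_cancel P hσ]; exact h), Sbar_mul_cancel P hσ]
      rw [hw, ← mul_assoc, AwC_sq P hσ, add_mul, smul_mul_assoc, one_mul, smul_mul_assoc]
    · rw [Lop_single P (qc P) hσ h, iota_single, iota_single, AwC_mul P hσ h]
  exact LinearMap.congr_fun key v

theorem iota_Rop {τ : W P} (hτ : τ ∈ Sbar P) (v : W P → ℂ) :
    iota P (Rop P (qc P) τ v) = iota P v * AwC P τ := by
  rw [Rop_eq_Lop_inv P (qc P) hτ v]
  have h1 := iota_inv P (Lop P (qc P) τ (fun w => v w⁻¹))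
  have h2 := iota_inv P v
  rw [h1, iota_Lop P hτ, Matrix.transpose_mul, h2, Matrix.transpose_transpose, AwC_transpose,
    Sbar_inv P hτ]

theorem iota_LL : ∀ K : List (W P), IsWord P K → ∀ v : W P → ℂ,
    iota P (LL P (qc P) K v) = (K.map (AwC P)).prod * iota P v
  | [], _, v => by simp [LL_nil]
  | σ :: K, h, v => by
    have hh := (isWord_cons P).1 h
    rw [LL_cons, Module.End.mul_apply, iota_Lop P hh.1, iota_LL K hh.2 v, List.map_cons,
      List.prod_cons, mul_assoc]

theorem iota_RR : ∀ K : List (W P), IsWord P K → ∀ v : W P → ℂ,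
    iota P (RR P (qc P) K v) = iota P v * (K.reverse.map (AwC P)).prod
  | [], _, v => by simp [RR_nil]
  | σ :: K, h, v => by
    have hh := (isWord_cons P).1 h
    rw [RR_cons, Module.End.mul_apply, iota_Rop P hh.1, iota_RR K hh.2 v, List.reverse_cons,
      List.map_append, List.prod_append, List.map_singleton, List.prod_singleton, mul_assoc]

theorem AwC_prod : ∀ L : List (W P), IsReduced P L → (L.map (AwC P)).prod = AwC P L.prod := by
  intro L
  induction L with
  | nil => intro _; simp [AwC_one]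
  | cons σ L ih =>
    intro h
    have hσ : σ ∈ Sbar P := ((isWord_cons P).1 h.1).1
    have h2 := len_lt_of_reduced_cons P h
    rw [List.prod_cons, Sbar_mul_cancel P hσ] at h2
    rw [List.map_cons, List.prod_cons, List.prod_cons, ih (isReduced_tail P h), AwC_mul P hσ h2]

theorem iota_TT (w : W P) (v : W P → ℂ) : iota P (TT P (qc P) w v) = AwC P w * iota P v := by
  unfold TT
  rw [iota_LL P _ (wd_isReduced P w).1, AwC_prod P _ (wd_isReduced P w), wd_prod]

theorem iota_TT' (w : W P) (v : W P → ℂ) :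
    iota P (TT' P (qc P) w v) = iota P v * AwC P w⁻¹ := by
  unfold TT'
  rw [iota_RR P _ (wd_isReduced P w).1, AwC_prod P _ (isReduced_reverse P (wd_isReduced P w)),
    ← word_prod_inv P (wd_isReduced P w).1, wd_prod]

theorem iota_Cas [Fintype (W P)] (a : W P → ℂ) (v : W P → ℂ) :
    iota P (Cas P (qc P) a v) = ∑ w : W P, a w • (AwC P w * iota P v * AwC P w⁻¹) := by
  unfold Cas
  rw [LinearMap.sum_apply, map_sum]
  apply Finset.sum_congr rfl
  intro w _
  rw [LinearMap.smul_apply, map_smul, Module.End.mul_apply, iota_TT, iota_TT', mul_assoc]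

end Cfsg.Agent.Lib.Helper5.Hecke
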