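import Mathlib
import Cfsg.Agent.Lib.Helper5.Hecke.One

/-!
# At the index parameters the Casimir operator maps onto the centre
-/

set_option autoImplicit false

namespace Cfsg.Agent.Lib.Helper5.Hecke

open Cfsg Cfsg.Agent.Lib.Helper5.BN Cfsg.Agent.Lib.Helper5.FHData Module

variable {G : Type*} [Group G] (P : BNPair G)

theorem exists_dist_eq (w : W P) : ∃ y : G ⧸ P.B, dist P (QuotientGroup.mk 1) y = w := by
  obtain ⟨n, rfl⟩ := proj_surjective P w
  refine ⟨QuotientGroup.mk (n : G), ?_⟩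
  rw [dist_mk, inv_one, one_mul, cell_eq_iff, C_proj]
  exact self_mem_D P _

theorem iota_injective : Function.Injective (iota P) := by
  intro v v' h
  funext w
  obtain ⟨y, hy⟩ := exists_dist_eq P w
  have := congrArg (fun M : Matrix (G ⧸ P.B) (G ⧸ P.B) ℂ => M (QuotientGroup.mk 1) y) h
  simpa only [iota_apply, hy] using this

theorem q_pos [Finite (G ⧸ P.B)] (w : W P) : 0 < q P w := by
  unfold q
  obtain ⟨y, hy⟩ := exists_dist_eq P w
  have : Nonempty {y : G ⧸ P.B // dist P (QuotientGroup.mk 1) y = w} := ⟨⟨y, hy⟩⟩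
  exact Nat.card_pos

variable [Fintype (G ⧸ P.B)]

theorem q_inv (w : W P) : q P w⁻¹ = q P w := by
  classical
  have h1 : ∑ x : G ⧸ P.B, ∑ y, Aw P w x y = (Fintype.card (G ⧸ P.B) : ℝ) * (q P w : ℝ) := by
    rw [Finset.sum_congr rfl (fun x _ => sum_Aw_row P w x), Finset.sum_const, Finset.card_univ,
      nsmul_eq_mul]
  have h2 : ∑ x : G ⧸ P.B, ∑ y, Aw P w x y
      = (Fintype.card (G ⧸ P.B) : ℝ) * (q P w⁻¹ : ℝ) := by
    have hc : ∑ x : G ⧸ P.B, ∑ y, Aw P w x y = ∑ y : G ⧸ P.B, ∑ x, Aw P w x y :=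
      Finset.sum_comm
    rw [hc, Finset.sum_congr rfl (fun y _ => sum_Aw_col P w y), Finset.sum_const,
      Finset.card_univ, nsmul_eq_mul]
  have : Nonempty (G ⧸ P.B) := ⟨QuotientGroup.mk 1⟩
  have h0 : (Fintype.card (G ⧸ P.B) : ℝ) ≠ 0 := Nat.cast_ne_zero.2 Fintype.card_ne_zero
  have := mul_left_cancel₀ h0 (h1.symm.trans h2)
  exact_mod_cast this.symm

theorem q_conj {σ τ : W P} (hσ : σ ∈ Sbar P) (hτ : τ ∈ Sbar P) (w : W P)
    (h : σ * w = w * τ) : q P σ = q P τ := by
  have key : ∀ w : W P, σ * w = w * τ → len P w < len P (σ * w) → q P σ = q P τ := by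
    intro w h hlt
    have h1 := q_mul P hσ hlt
    have e : τ * w⁻¹ = (σ * w)⁻¹ := by rw [h, mul_inv_rev, Sbar_inv P hτ]
    have hlt2 : len P w⁻¹ < len P (τ * w⁻¹) := by
      rw [e, len_inv, len_inv]; exact hlt
    have h2 := q_mul P hτ hlt2
    rw [e, q_inv, q_inv] at h2
    have h3 : q P σ * q P w = q P τ * q P w := by rw [← h1, ← h2]
    exact Nat.eq_of_mul_eq_mul_right (q_pos P w) h3
  rcases lt_or_gt_of_ne (len_mul_ne P (w := w) hσ) with hlt | hlt
  · apply key (σ * w)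
    · rw [Sbar_mul_cancel P hσ, h, mul_Sbar_cancel P hτ]
    · rw [Sbar_mul_cancel P hσ]; exact hlt
  · exact key w h hlt

theorem qc_conj : ∀ σ ∈ Sbar P, ∀ τ ∈ Sbar P, ∀ w : W P, σ * w = w * τ → qc P σ = qc P τ := by
  intro σ hσ τ hτ w h
  unfold qc
  rw [q_conj P hσ hτ w h]

theorem uw_qc (w : W P) : uw P (qc P) w = qc P w := by
  unfold uw qc
  have := q_prod P (wd P w) (wd_isReduced P w)
  rw [wd_prod] at this
  rw [this, Nat.cast_list_prod, List.map_map]
  rfl

variable [DecidableEq (G ⧸ P.B)] [Fintype (W P)] [DecidableEq (W P)]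

/-- real weights -/
noncomputable def wtR (w : W P) : ℝ := ∏ x ∈ Finset.univ.erase w, (q P x : ℝ)

omit [Fintype (G ⧸ P.B)] [DecidableEq (G ⧸ P.B)] in
theorem wtR_pos [Finite (G ⧸ P.B)] (w : W P) : 0 < wtR P w :=
  Finset.prod_pos (fun x _ => Nat.cast_pos.2 (q_pos P x))

/-- the real Casimir element -/
noncomputable def cMat : Matrix (G ⧸ P.B) (G ⧸ P.B) ℝ :=
  ∑ w : W P, wtR P w • (Aw P w * (Aw P w).transpose)

theorem cMat_posDef : (cMat P).PosDef := by
  unfold cMat
  rw [← Finset.add_sum_erase Finset.univ _ (Finset.mem_univ (1 : W P))]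
  apply Matrix.PosDef.add_posSemidef
  · rw [Aw_one, Matrix.transpose_one, mul_one]
    exact Matrix.PosDef.one.smul (wtR_pos P 1)
  · apply Matrix.posSemidef_sum
    intro w _
    apply Matrix.PosSemidef.smul _ (le_of_lt (wtR_pos P w))
    rw [← Matrix.conjTranspose_eq_transpose_of_trivial]
    exact Matrix.posSemidef_self_mul_conjTranspose _

theorem isUnit_cMat : IsUnit (cMat P) := (cMat_posDef P).isUnit

omit [DecidableEq (G ⧸ P.B)] in
theorem wt_qc (w : W P) : wt P (qc P) w = ((wtR P w : ℝ) : ℂ) := by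
  unfold wt wtR
  rw [Complex.ofReal_prod]
  apply Finset.prod_congr rfl
  intro x _
  rw [uw_qc]
  simp [qc]

/-- the complex Casimir element -/
noncomputable def cMatC : Matrix (G ⧸ P.B) (G ⧸ P.B) ℂ :=
  ∑ w : W P, wt P (qc P) w • (AwC P w * AwC P w⁻¹)

theorem cMatC_eq : cMatC P = Complex.ofRealHom.mapMatrix (cMat P) := by
  unfold cMatC cMat
  rw [map_sum]
  apply Finset.sum_congr rfl
  intro w _
  have h1 : AwC P w * AwC P w⁻¹ = (Aw P w * (Aw P w).transpose).map Complex.ofRealHom := by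
    rw [← AwC_transpose]
    unfold AwC
    rw [← Matrix.transpose_map, ← Matrix.map_mul]
  rw [h1, wt_qc]
  generalize Aw P w * (Aw P w).transpose = M
  ext x y
  simp [Matrix.map_apply, Matrix.smul_apply]

theorem isUnit_cMatC : IsUnit (cMatC P) := by
  rw [cMatC_eq]
  exact (isUnit_cMat P).map _

omit [Fintype (W P)] [DecidableEq (W P)] in
theorem comm_prod (M : Matrix (G ⧸ P.B) (G ⧸ P.B) ℂ)
    (h : ∀ σ ∈ Sbar P, AwC P σ * M = M * AwC P σ) :
    ∀ L : List (W P), IsWord P L → (L.map (AwC P)).prod * M = M * (L.map (AwC P)).prod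
  | [], _ => by simp
  | σ :: L, hL => by
    have hh := (isWord_cons P).1 hL
    rw [List.map_cons, List.prod_cons, mul_assoc, comm_prod M h L hh.2, ← mul_assoc, h σ hh.1,
      mul_assoc]

omit [DecidableEq (W P)] in
theorem comm_of_mem_Zc {v : W P → ℂ} (hv : v ∈ Zc P (qc P)) (w : W P) :
    AwC P w * iota P v = iota P v * AwC P w := by
  have h : ∀ σ ∈ Sbar P, AwC P σ * iota P v = iota P v * AwC P σ := by
    intro σ hσ
    rw [← iota_Lop P hσ, ← iota_Rop P hσ, (mem_Zc P (qc P)).1 hv σ hσ]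
  have := comm_prod P (iota P v) h (wd P w) (wd_isReduced P w).1
  rwa [AwC_prod P _ (wd_isReduced P w), wd_prod] at this

theorem iota_Cas_of_mem {v : W P → ℂ} (hv : v ∈ Zc P (qc P)) :
    iota P (Cas P (qc P) (wt P (qc P)) v) = iota P v * cMatC P := by
  rw [iota_Cas]
  unfold cMatC
  rw [Finset.mul_sum]
  apply Finset.sum_congr rfl
  intro w _
  rw [comm_of_mem_Zc P hv w, mul_smul_comm, mul_assoc]

theorem range_Cas_qc : LinearMap.range (Cas P (qc P) (wt P (qc P))) = Zc P (qc P) := by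
  apply le_antisymm
  · exact range_Cas_le_Zc P (qc P) (qc_conj P)
  · have hmaps : ∀ v ∈ Zc P (qc P), Cas P (qc P) (wt P (qc P)) v ∈ Zc P (qc P) := by
      intro v _
      exact range_Cas_le_Zc P (qc P) (qc_conj P) ⟨v, rfl⟩
    have hinj : Function.Injective ((Cas P (qc P) (wt P (qc P))).restrict hmaps) := by
      rw [← LinearMap.ker_eq_bot, LinearMap.ker_eq_bot']
      intro v hv
      have h1 : Cas P (qc P) (wt P (qc P)) (v : W P → ℂ) = 0 := by
        have := congrArg Subtype.val hv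
        simpa using this
      have h2 := iota_Cas_of_mem P v.2
      rw [h1, map_zero] at h2
      have h3 : iota P (v : W P → ℂ) = 0 := ((isUnit_cMatC P).mul_left_eq_zero).1 h2.symm
      have h4 : (v : W P → ℂ) = 0 := iota_injective P (by rw [h3, map_zero])
      exact Subtype.ext h4
    have hsurj := LinearMap.injective_iff_surjective.1 hinj
    intro v hv
    obtain ⟨v', hv'⟩ := hsurj ⟨v, hv⟩
    refine ⟨v'.1, ?_⟩
    have := congrArg Subtype.val hv'
    simpa using this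

end Cfsg.Agent.Lib.Helper5.Hecke
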