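import Mathlib
import Cfsg.Agent.Lib.Helper5.Hecke.One2

/-!
# Counting the group elements that move a pair of cosets to a pair of cosets
-/

set_option autoImplicit false

namespace Cfsg.Agent.Lib.Helper5.Hecke

open Cfsg Cfsg.Agent.Lib.Helper5.BN Cfsg.Agent.Lib.Helper5.FHData Module

variable {G : Type*} [Group G] (P : BNPair G)

/-- pairs at the same distance are conjugate -/
theorem exists_smul_of_dist_eq {x x' y y' : G ⧸ P.B} (h : dist P x x' = dist P y y') :
    ∃ g : G, g • x = y ∧ g • x' = y' := by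
  induction x using QuotientGroup.induction_on with
  | _ a =>
  induction x' using QuotientGroup.induction_on with
  | _ a' =>
  induction y using QuotientGroup.induction_on with
  | _ b =>
  induction y' using QuotientGroup.induction_on with
  | _ b' =>
  rw [dist_mk, dist_mk] at h
  have h1 : a⁻¹ * a' ∈ C P (cell P (b⁻¹ * b')) := (cell_eq_iff P).1 h
  have h2 : b⁻¹ * b' ∈ C P (cell P (b⁻¹ * b')) := (cell_eq_iff P).1 rfl
  unfold C at h1 h2
  have h3 : a⁻¹ * a' ∈ D P (b⁻¹ * b') := by
    rw [D_eq_of_mem P h2]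
    exact h1
  obtain ⟨β, hβ, β', hβ', e⟩ := (mem_D P).1 h3
  refine ⟨b * β⁻¹ * a⁻¹, ?_, ?_⟩
  · rw [smul_mk, QuotientGroup.eq]
    have e1 : (b * β⁻¹ * a⁻¹ * a)⁻¹ * b = β := by group
    rw [e1]
    exact hβ
  · rw [smul_mk, QuotientGroup.eq]
    have e' : a' = a * (β * (b⁻¹ * b') * β') := by rw [← e]; group
    have e1 : (b * β⁻¹ * a⁻¹ * a')⁻¹ * b' = β'⁻¹ := by rw [e']; group
    rw [e1]
    exact inv_mem hβ'

theorem card_movers (x y : G ⧸ P.B) : Nat.card {g : G // g • x = y} = Nat.card P.B := by
  induction x using QuotientGroup.induction_on with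
  | _ a =>
  induction y using QuotientGroup.induction_on with
  | _ b =>
  apply Nat.card_congr
  refine ⟨fun g => ⟨b⁻¹ * g.1 * a, ?_⟩, fun β => ⟨b * β.1 * a⁻¹, ?_⟩, ?_, ?_⟩
  · have := g.2
    rw [smul_mk, QuotientGroup.eq] at this
    have e : b⁻¹ * g.1 * a = ((g.1 * a)⁻¹ * b)⁻¹ := by group
    rw [e]
    exact inv_mem this
  · rw [smul_mk, QuotientGroup.eq]
    have e : (b * β.1 * a⁻¹ * a)⁻¹ * b = (β.1)⁻¹ := by group
    rw [e]
    exact inv_mem β.2
  · intro g
    apply Subtype.ext
    simp only
    group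
  · intro β
    apply Subtype.ext
    simp only
    group

variable [Fintype G] [DecidableEq (G ⧸ P.B)]

/-- number of group elements moving a pair to a pair -/
noncomputable def Npair (x x' y y' : G ⧸ P.B) : ℕ :=
  (Finset.univ.filter (fun g : G => g • x = y ∧ g • x' = y')).card

theorem Npair_eq_zero {x x' y y' : G ⧸ P.B} (h : dist P x x' ≠ dist P y y') :
    Npair P x x' y y' = 0 := by
  unfold Npair
  rw [Finset.card_eq_zero, Finset.filter_eq_empty_iff]
  rintro g - ⟨h1, h2⟩
  apply h
  rw [← h1, ← h2, FHData.dist_smul]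

theorem Npair_congr {x x' y y' y'' : G ⧸ P.B} (h : dist P y y' = dist P y y'') :
    Npair P x x' y y' = Npair P x x' y y'' := by
  obtain ⟨k, hk1, hk2⟩ := exists_smul_of_dist_eq P h
  unfold Npair
  apply Finset.card_bij (fun g _ => k * g)
  · intro g hg
    rw [Finset.mem_filter] at hg ⊢
    refine ⟨Finset.mem_univ _, ?_, ?_⟩
    · rw [mul_smul, hg.2.1, hk1]
    · rw [mul_smul, hg.2.2, hk2]
  · intro g _ g' _ e
    exact mul_left_cancel e
  · intro g hg
    rw [Finset.mem_filter] at hg
    refine ⟨k⁻¹ * g, ?_, by group⟩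
    rw [Finset.mem_filter]
    refine ⟨Finset.mem_univ _, ?_, ?_⟩
    · rw [mul_smul, hg.2.1]
      exact inv_smul_eq_iff.2 hk1.symm
    · rw [mul_smul, hg.2.2]
      exact inv_smul_eq_iff.2 hk2.symm

variable [Fintype (G ⧸ P.B)]

theorem sum_Npair (x x' y : G ⧸ P.B) :
    ∑ y', Npair P x x' y y' = (Finset.univ.filter (fun g : G => g • x = y)).card := by
  unfold Npair
  rw [Finset.card_eq_sum_card_fiberwise (f := fun g : G => g • x') (t := Finset.univ)
    (fun g _ => Finset.mem_univ _)]
  apply Finset.sum_congr rfl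
  intro y' _
  congr 1
  ext g
  simp only [Finset.mem_filter, Finset.mem_univ, true_and]

theorem Npair_mul_q {x x' y y' : G ⧸ P.B} (h : dist P x x' = dist P y y') :
    Npair P x x' y y' * q P (dist P x x') = Nat.card P.B := by
  classical
  have h1 := sum_Npair P x x' y
  rw [← Finset.sum_filter_add_sum_filter_not Finset.univ
    (fun y'' => dist P y y'' = dist P x x')] at h1
  have h2 : ∑ y'' ∈ Finset.univ.filter (fun y'' => ¬ dist P y y'' = dist P x x'),
      Npair P x x' y y'' = 0 := by
    apply Finset.sum_eq_zero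
    intro y'' hy''
    rw [Finset.mem_filter] at hy''
    exact Npair_eq_zero P (fun e => hy''.2 e.symm)
  have h3 : ∀ y'' ∈ Finset.univ.filter (fun y'' => dist P y y'' = dist P x x'),
      Npair P x x' y y'' = Npair P x x' y y' := by
    intro y'' hy''
    rw [Finset.mem_filter] at hy''
    exact Npair_congr P (hy''.2.trans h)
  have h4 : (Finset.univ.filter (fun y'' => dist P y y'' = dist P x x')).card
      = q P (dist P x x') := by
    rw [← card_sphere P y (dist P x x'), Nat.card_eq_fintype_card, Fintype.card_subtype]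
  have h5 : (Finset.univ.filter (fun g : G => g • x = y)).card = Nat.card P.B := by
    rw [← card_movers P x y, Nat.card_eq_fintype_card, Fintype.card_subtype]
  rw [h2, add_zero, Finset.sum_congr rfl h3, Finset.sum_const, smul_eq_mul, h4, h5] at h1
  rw [mul_comm]
  exact h1

end Cfsg.Agent.Lib.Helper5.Hecke
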