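import Mathlib
import Cfsg.Prelude.Def_Characters
import Cfsg.Agent.Lib.Helper5.Hecke.Const1

/-!
# Invariant matrices, permutation matrices, and the Casimir operator as a class-function operator
-/

set_option autoImplicit false
set_option linter.unusedSectionVars false

namespace Cfsg.Agent.Lib.Helper5.Hecke

open Cfsg Cfsg.Agent.Lib.Helper5.BN Cfsg.Agent.Lib.Helper5.FHData Module

variable {G : Type*} [Group G] (P : BNPair G)

/-- `G`-invariant matrices -/
def Inv (M : Matrix (G ⧸ P.B) (G ⧸ P.B) ℂ) : Prop :=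
  ∀ (g : G) (x y : G ⧸ P.B), M (g • x) (g • y) = M x y

theorem inv_iota (v : W P → ℂ) : Inv P (iota P v) := fun g x y => by
  rw [iota_apply, iota_apply, FHData.dist_smul]

theorem exists_iota_of_inv {M : Matrix (G ⧸ P.B) (G ⧸ P.B) ℂ} (h : Inv P M) :
    ∃ v, iota P v = M := by
  classical
  have key : ∀ (w : W P) (y0 : G ⧸ P.B), dist P (QuotientGroup.mk 1) y0 = w →
      ∀ x y : G ⧸ P.B, dist P x y = w → M x y = M (QuotientGroup.mk 1) y0 := by
    intro w y0 h0 x y hxy
    obtain ⟨g, hg1, hg2⟩ := exists_smul_of_dist_eq P (h0.trans hxy.symm)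
    rw [← hg1, ← hg2, h g]
  refine ⟨fun w => M (QuotientGroup.mk 1) (Classical.choose (exists_dist_eq P w)), ?_⟩
  ext x y
  rw [iota_apply]
  exact (key _ _ (Classical.choose_spec (exists_dist_eq P (dist P x y))) x y rfl).symm

variable [Fintype G] [Fintype (G ⧸ P.B)] [DecidableEq (G ⧸ P.B)]

/-- permutation matrices -/
def rho (g : G) : Matrix (G ⧸ P.B) (G ⧸ P.B) ℂ :=
  Matrix.of fun x y => if x = g • y then 1 else 0

omit [Fintype G] [Fintype (G ⧸ P.B)] in
theorem rho_apply (g : G) (x y : G ⧸ P.B) : rho P g x y = if x = g • y then 1 else 0 := rfl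

omit [Fintype G] in
theorem rho_mul (g h : G) : rho P (g * h) = rho P g * rho P h := by
  ext x z
  rw [Matrix.mul_apply, Finset.sum_eq_single (h • z)]
  · rw [rho_apply, rho_apply, rho_apply, if_pos rfl, mul_one, mul_smul]
  · intro y _ hy
    rw [rho_apply P h y z, if_neg hy, mul_zero]
  · intro hh
    exact absurd (Finset.mem_univ _) hh

/-- the operator of a function on the group -/
noncomputable def Sop : (G → ℂ) →ₗ[ℂ] Matrix (G ⧸ P.B) (G ⧸ P.B) ℂ where
  toFun f := ∑ g, f g • rho P g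
  map_add' f f' := by simp only [Pi.add_apply, add_smul, Finset.sum_add_distrib]
  map_smul' c f := by
    simp only [Pi.smul_apply, smul_eq_mul, mul_smul, Finset.smul_sum, RingHom.id_apply]

omit [Fintype (G ⧸ P.B)] in
theorem Sop_def (f : G → ℂ) : Sop P f = ∑ g, f g • rho P g := rfl

omit [Fintype (G ⧸ P.B)] in
theorem Sop_apply (f : G → ℂ) (x y : G ⧸ P.B) :
    Sop P f x y = ∑ g, if x = g • y then f g else 0 := by
  rw [Sop_def, Matrix.sum_apply]
  apply Finset.sum_congr rfl
  intro g _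
  rw [Matrix.smul_apply, rho_apply, smul_eq_mul, mul_ite, mul_one, mul_zero]

omit [Fintype (G ⧸ P.B)] in
theorem Sop_apply' (f : G → ℂ) (x y : G ⧸ P.B) :
    Sop P f x y = ∑ k, if k • x = y then f k⁻¹ else 0 := by
  rw [Sop_apply, ← Equiv.sum_comp (Equiv.inv G)]
  apply Finset.sum_congr rfl
  intro k _
  simp only [Equiv.inv_apply]
  have : (x = k⁻¹ • y) ↔ k • x = y := by rw [eq_inv_smul_iff]
  simp only [this]

theorem Sop_mul (f f' : G → ℂ) :
    Sop P f * Sop P f' = Sop P (fun g => ∑ x, f x * f' (x⁻¹ * g)) := by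
  rw [Sop_def, Sop_def, Sop_def, Finset.sum_mul]
  have h1 : ∀ x : G, (f x • rho P x) * ∑ h, f' h • rho P h
      = ∑ g, (f x * f' (x⁻¹ * g)) • rho P g := by
    intro x
    rw [Finset.mul_sum, ← Equiv.sum_comp (Equiv.mulLeft x⁻¹)]
    apply Finset.sum_congr rfl
    intro g _
    rw [Equiv.coe_mulLeft, smul_mul_smul_comm, ← rho_mul, mul_inv_cancel_left]
  rw [Finset.sum_congr rfl (fun x _ => h1 x), Finset.sum_comm]
  apply Finset.sum_congr rfl
  intro g _
  rw [Finset.sum_smul]

omit [Fintype G] in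
theorem rho_mul_inv {M : Matrix (G ⧸ P.B) (G ⧸ P.B) ℂ} (hM : Inv P M) (g : G) :
    rho P g * M = M * rho P g := by
  ext x z
  have h1 : (rho P g * M) x z = M (g⁻¹ • x) z := by
    rw [Matrix.mul_apply, Finset.sum_eq_single (g⁻¹ • x)]
    · rw [rho_apply, if_pos (smul_inv_smul g x).symm, one_mul]
    · intro y _ hy
      rw [rho_apply, if_neg, zero_mul]
      intro e
      apply hy
      rw [e, inv_smul_smul]
    · intro h
      exact absurd (Finset.mem_univ _) h
  have h2 : (M * rho P g) x z = M x (g • z) := by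
    rw [Matrix.mul_apply, Finset.sum_eq_single (g • z)]
    · rw [rho_apply, if_pos rfl, mul_one]
    · intro y _ hy
      rw [rho_apply, if_neg hy, mul_zero]
    · intro h
      exact absurd (Finset.mem_univ _) h
  rw [h1, h2]
  have := hM g (g⁻¹ • x) z
  rw [smul_inv_smul] at this
  exact this.symm

theorem Sop_mul_inv {M : Matrix (G ⧸ P.B) (G ⧸ P.B) ℂ} (hM : Inv P M) (f : G → ℂ) :
    Sop P f * M = M * Sop P f := by
  rw [Sop_def, Finset.sum_mul, Finset.mul_sum]
  apply Finset.sum_congr rfl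
  intro g _
  rw [smul_mul_assoc, mul_smul_comm, rho_mul_inv P hM]

omit [Fintype (G ⧸ P.B)] in
theorem inv_Sop {f : G → ℂ} (hf : IsClassFunction G f) : Inv P (Sop P f) := by
  intro h x y
  rw [Sop_apply, Sop_apply, ← Equiv.sum_comp (MulAut.conj h).toEquiv]
  apply Finset.sum_congr rfl
  intro g _
  simp only [MulEquiv.toEquiv_eq_coe, EquivLike.coe_coe, MulAut.conj_apply]
  rw [hf g h]
  have : (h • x = (h * g * h⁻¹) • (h • y)) ↔ x = g • y := by
    rw [mul_smul, mul_smul, inv_smul_smul]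
    exact (MulAction.injective h).eq_iff
  simp only [this]

open Classical in
theorem sandwich_apply (w : W P) (M : Matrix (G ⧸ P.B) (G ⧸ P.B) ℂ) (x y : G ⧸ P.B) :
    (AwC P w * M * AwC P w⁻¹) x y
      = ∑ x', ∑ y', if dist P x x' = w ∧ dist P y y' = w then M x' y' else 0 := by
  rw [Matrix.mul_apply]
  simp only [Matrix.mul_apply, Finset.sum_mul]
  rw [Finset.sum_comm]
  apply Finset.sum_congr rfl
  intro x' _
  apply Finset.sum_congr rfl
  intro y' _
  have e : dist P y' y = w⁻¹ ↔ dist P y y' = w := by rw [dist_symm P y y', inv_inj]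
  rw [AwC_apply, AwC_apply]
  by_cases h1 : dist P x x' = w <;> by_cases h2 : dist P y y' = w <;> simp [h1, h2, e]

open Classical in
theorem casimir_apply [Fintype (W P)] (a : W P → ℂ) (M : Matrix (G ⧸ P.B) (G ⧸ P.B) ℂ)
    (x y : G ⧸ P.B) :
    (∑ w : W P, a w • (AwC P w * M * AwC P w⁻¹)) x y
      = ∑ x', ∑ y', if dist P y y' = dist P x x' then a (dist P x x') * M x' y' else 0 := by
  rw [Matrix.sum_apply]
  simp only [Matrix.smul_apply, sandwich_apply, smul_eq_mul, Finset.mul_sum]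
  rw [Finset.sum_comm]
  apply Finset.sum_congr rfl
  intro x' _
  rw [Finset.sum_comm]
  apply Finset.sum_congr rfl
  intro y' _
  rw [Finset.sum_eq_single (dist P x x')]
  · by_cases h : dist P y y' = dist P x x'
    · rw [if_pos ⟨rfl, h⟩, if_pos h]
    · rw [if_neg (fun hh => h hh.2), if_neg h, mul_zero]
  · intro w _ hw
    rw [if_neg (fun hh => hw hh.1.symm), mul_zero]
  · intro h
    exact absurd (Finset.mem_univ _) h

/-- the class function attached to an invariant matrix -/
noncomputable def trFun (M : Matrix (G ⧸ P.B) (G ⧸ P.B) ℂ) (g : G) : ℂ :=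
  ∑ x', M x' (g⁻¹ • x')

omit [Fintype G] [DecidableEq (G ⧸ P.B)] in
theorem isClassFunction_trFun {M : Matrix (G ⧸ P.B) (G ⧸ P.B) ℂ} (hM : Inv P M) :
    IsClassFunction G (trFun P M) := by
  intro g h
  unfold trFun
  rw [← Equiv.sum_comp (MulAction.toPerm h : Equiv.Perm (G ⧸ P.B))]
  apply Finset.sum_congr rfl
  intro x'' _
  simp only [MulAction.toPerm_apply]
  have e : (h * g * h⁻¹)⁻¹ • h • x'' = h • g⁻¹ • x'' := by
    rw [← mul_smul, ← mul_smul]
    congr 1
    group
  rw [e, hM]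

theorem Sop_trFun_apply (M : Matrix (G ⧸ P.B) (G ⧸ P.B) ℂ) (c : ℂ) (x y : G ⧸ P.B) :
    Sop P (fun g => c * trFun P M g) x y
      = c * ∑ x', ∑ y', M x' y' * (Npair P x x' y y' : ℂ) := by
  rw [Sop_apply']
  simp only [trFun, inv_inv]
  have h1 : ∀ k : G, (if k • x = y then c * ∑ x', M x' (k • x') else 0)
      = c * ∑ x', if k • x = y then M x' (k • x') else 0 := by
    intro k
    split_ifs <;> simp
  rw [Finset.sum_congr rfl (fun k _ => h1 k), ← Finset.mul_sum, Finset.sum_comm]
  congr 1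
  apply Finset.sum_congr rfl
  intro x' _
  have h2 : ∀ y' : G ⧸ P.B, M x' y' * (Npair P x x' y y' : ℂ)
      = ∑ k : G, if k • x = y ∧ k • x' = y' then M x' y' else 0 := by
    intro y'
    unfold Npair
    rw [Finset.card_filter, Nat.cast_sum, Finset.mul_sum]
    apply Finset.sum_congr rfl
    intro k _
    split_ifs <;> simp
  rw [Finset.sum_congr rfl (fun y' _ => h2 y'), Finset.sum_comm]
  apply Finset.sum_congr rfl
  intro k _
  rw [Finset.sum_eq_single (k • x')]
  · by_cases h : k • x = y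
    · rw [if_pos h, if_pos ⟨h, rfl⟩]
    · rw [if_neg h, if_neg (fun hh => h hh.1)]
  · intro y' _ hy'
    rw [if_neg (fun hh => hy' hh.2.symm)]
  · intro h
    exact absurd (Finset.mem_univ _) h

theorem casimir_eq_Sop [Fintype (W P)] (M : Matrix (G ⧸ P.B) (G ⧸ P.B) ℂ) (a : W P → ℂ)
    (Qc : ℂ) (ha : ∀ w, a w * qc P w = Qc) :
    ∑ w : W P, a w • (AwC P w * M * AwC P w⁻¹)
      = Sop P (fun g => Qc / (Nat.card P.B : ℂ) * trFun P M g) := by
  classical
  ext x y
  rw [casimir_apply, Sop_trFun_apply, Finset.mul_sum]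
  apply Finset.sum_congr rfl
  intro x' _
  rw [Finset.mul_sum]
  apply Finset.sum_congr rfl
  intro y' _
  by_cases h : dist P y y' = dist P x x'
  · rw [if_pos h]
    have h1 := Npair_mul_q P h.symm
    have h2 : (Npair P x x' y y' : ℂ) * qc P (dist P x x') = (Nat.card P.B : ℂ) := by
      unfold qc
      exact_mod_cast h1
    have hB : (Nat.card P.B : ℂ) ≠ 0 := Nat.cast_ne_zero.2 Nat.card_pos.ne'
    have hq : qc P (dist P x x') ≠ 0 := by
      unfold qc
      exact Nat.cast_ne_zero.2 (q_pos P _).ne'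
    rw [← ha (dist P x x')]
    field_simp
    rw [← h2]
    ring
  · rw [if_neg h, Npair_eq_zero P (fun e => h e.symm)]
    simp

end Cfsg.Agent.Lib.Helper5.Hecke
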