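import Mathlib
import Cfsg.Prelude.Def_ParabolicCharacters
import Cfsg.Agent.Lib.Helper5.Hecke.Const2
import Cfsg.Agent.Lib.helper3.BlockIdem
import Cfsg.Agent.Lib.helper3.Irr9
import Cfsg.Agent.Lib.helper3.TwoTrans

/-!
# The centre of the commutant of the permutation module `ℂ[G/B]`

The centre is the image of the centre of the group algebra; its dimension is the number of
irreducible constituents of the permutation character.
-/

set_option autoImplicit false
set_option linter.unusedSectionVars false

namespace Cfsg.Agent.Lib.Helper5.Hecke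

open Cfsg Cfsg.Agent.Lib.Helper5.BN Cfsg.Agent.Lib.Helper5.FHData Module
open Cfsg.Agent.Lib.helper3.Block Cfsg.Agent.Lib.helper3.Irr Cfsg.Agent.Lib.helper3.CharBasic
open Cfsg.Agent.Lib.helper3.IndFun
open scoped ComplexConjugate

section general

theorem eq_zero_of_idem_trace {n : Type*} [Fintype n] [DecidableEq n] (M : Matrix n n ℂ)
    (h : M * M = M) (ht : M.trace = 0) : M = 0 := by
  have he : IsIdempotentElem (Matrix.toLin' M) := by
    unfold IsIdempotentElem
    rw [Module.End.mul_eq_comp, ← Matrix.toLin'_mul, h]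
  have h1 : LinearMap.trace ℂ (n → ℂ) (Matrix.toLin' M) = 0 := by
    rw [LinearMap.trace_eq_matrix_trace ℂ (Pi.basisFun ℂ n), LinearMap.toMatrix_eq_toMatrix',
      LinearMap.toMatrix'_toLin', ht]
  have h2 := (LinearMap.IsIdempotentElem.trace_eq_zero_iff he).1 h1
  have := congrArg LinearMap.toMatrix' h2
  simpa using this

end general

variable {G : Type*} [Group G] [Fintype G]

/-- `coef` as a linear map -/
noncomputable def coefL : (IrrCharacter G → ℂ) →ₗ[ℂ] (G → ℂ) where
  toFun c := coef c
  map_add' c d := by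
    funext g
    exact coef_add c d g
  map_smul' r c := by
    funext g
    simp only [RingHom.id_apply, Pi.smul_apply, smul_eq_mul]
    exact coef_smul r c g

theorem isClassFunction_coef (c : IrrCharacter G → ℂ) : IsClassFunction G (coef c) := by
  intro g h
  unfold coef
  congr 1
  apply Finset.sum_congr rfl
  intro χ _
  rw [isClassFunction_of_isCharacter (isCharacter_of_isIrrCharacter χ.2) g h]

theorem exists_coef_eq {f : G → ℂ} (hf : IsClassFunction G f) :
    ∃ c : IrrCharacter G → ℂ, coef c = f := by
  have hf' : IsClassFunction G (fun g => conj (f g)) := fun g h => by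
    simp only
    rw [hf g h]
  have h1 := classFunction_eq_sum _ hf'
  have hG0 : (Nat.card G : ℂ) ≠ 0 := Nat.cast_ne_zero.2 Nat.card_pos.ne'
  refine ⟨fun χ => (Nat.card G : ℂ) * conj (classInner (fun g => conj (f g)) (χ : G → ℂ))
    / (χ : G → ℂ) 1, ?_⟩
  funext g
  unfold coef
  have h2 := congrFun h1 g
  simp only [Finset.sum_apply, Pi.smul_apply, smul_eq_mul] at h2
  have h3 : f g = conj (conj (f g)) := (Complex.conj_conj _).symm
  rw [h3, h2, map_sum, Finset.mul_sum]
  apply Finset.sum_congr rfl
  intro χ _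
  have hχ := apply_one_ne_zero χ.2
  rw [map_mul]
  field_simp

variable (P : BNPair G) [Fintype (G ⧸ P.B)] [DecidableEq (G ⧸ P.B)]

/-- the operator of the central element with Fourier coordinates `c` -/
noncomputable def Theta : (IrrCharacter G → ℂ) →ₗ[ℂ] Matrix (G ⧸ P.B) (G ⧸ P.B) ℂ :=
  (Sop P).comp coefL

theorem Theta_apply (c : IrrCharacter G → ℂ) : Theta P c = Sop P (coef c) := rfl

theorem Theta_mul (c d : IrrCharacter G → ℂ) : Theta P (c * d) = Theta P c * Theta P d := by
  rw [Theta_apply, Theta_apply, Theta_apply, Sop_mul]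
  congr 1
  funext g
  exact coef_mul c d g

/-- the images of the primitive central idempotents -/
noncomputable def EE (χ : IrrCharacter G) : Matrix (G ⧸ P.B) (G ⧸ P.B) ℂ :=
  Theta P (Pi.single χ 1)

theorem EE_sq (χ : IrrCharacter G) : EE P χ * EE P χ = EE P χ := by
  unfold EE
  rw [← Theta_mul]
  congr 1
  funext ψ
  rw [Pi.mul_apply]
  by_cases h : ψ = χ
  · subst h
    simp
  · simp [Pi.single_eq_of_ne h]

theorem EE_mul_of_ne {χ ψ : IrrCharacter G} (h : χ ≠ ψ) : EE P χ * EE P ψ = 0 := by
  unfold EE
  rw [← Theta_mul]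
  have : (Pi.single χ (1 : ℂ) * Pi.single ψ (1 : ℂ) : IrrCharacter G → ℂ) = 0 := by
    funext φ
    rw [Pi.mul_apply]
    by_cases h1 : φ = χ
    · subst h1
      simp [Pi.single_eq_of_ne h]
    · simp [Pi.single_eq_of_ne h1]
  rw [this, map_zero]

theorem Theta_eq_sum (c : IrrCharacter G → ℂ) : Theta P c = ∑ χ, c χ • EE P χ := by
  have : c = ∑ χ, c χ • Pi.single χ (1 : ℂ) := by
    funext ψ
    rw [Finset.sum_apply, Finset.sum_eq_single ψ]
    · simp
    · intro χ _ h
      simp [Pi.single_eq_of_ne (Ne.symm h)]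
    · intro h
      exact absurd (Finset.mem_univ _) h
  conv_lhs => rw [this]
  rw [map_sum]
  simp only [map_smul]
  rfl

theorem trace_rho (g : G) : (rho P g).trace = fixedPointCharacter P.B g := by
  unfold fixedPointCharacter Matrix.trace
  simp only [Matrix.diag_apply, rho_apply]
  rw [Finset.sum_boole]
  congr 1
  have e : Nat.card (MulAction.fixedBy (G ⧸ P.B) g)
      = Nat.card {x : G ⧸ P.B // x = g • x} := by
    apply Nat.card_congr
    exact Equiv.subtypeEquivRight (fun x => by rw [MulAction.mem_fixedBy, eq_comm])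
  rw [e, Nat.card_eq_fintype_card, Fintype.card_subtype]

theorem trace_Sop (f : G → ℂ) :
    (Sop P f).trace = ∑ g, f g * fixedPointCharacter P.B g := by
  rw [Sop_def, Matrix.trace_sum]
  apply Finset.sum_congr rfl
  intro g _
  rw [Matrix.trace_smul, trace_rho, smul_eq_mul]

theorem trace_EE (χ : IrrCharacter G) :
    (EE P χ).trace = (χ : G → ℂ) 1 * classInner (fixedPointCharacter P.B) (χ : G → ℂ) := by
  unfold EE
  rw [Theta_apply, trace_Sop, classInner_apply, Finset.mul_sum, Finset.mul_sum]
  apply Finset.sum_congr rfl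
  intro g _
  unfold coef
  rw [Finset.sum_eq_single χ]
  · rw [Pi.single_eq_same]
    ring
  · intro ψ _ h
    rw [Pi.single_eq_of_ne h]
    ring
  · intro h
    exact absurd (Finset.mem_univ _) h

theorem EE_eq_zero_iff (χ : IrrCharacter G) :
    EE P χ = 0 ↔ classInner (fixedPointCharacter P.B) (χ : G → ℂ) = 0 := by
  constructor
  · intro h
    have := trace_EE P χ
    rw [h, Matrix.trace_zero] at this
    rcases mul_eq_zero.1 this.symm with h1 | h1
    · exact absurd h1 (apply_one_ne_zero χ.2)
    · exact h1
  · intro h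
    apply eq_zero_of_idem_trace _ (EE_sq P χ)
    rw [trace_EE, h, mul_zero]

theorem finrank_range_Theta :
    finrank ℂ (LinearMap.range (Theta P)) = Fintype.card {χ : IrrCharacter G // EE P χ ≠ 0} := by
  classical
  have hli : LinearIndependent ℂ (fun k : {χ : IrrCharacter G // EE P χ ≠ 0} => EE P k.1) := by
    rw [Fintype.linearIndependent_iff]
    intro a ha k₀
    have h1 := congrArg (fun M => M * EE P k₀.1) ha
    simp only [Finset.sum_mul, smul_mul_assoc, zero_mul] at h1
    rw [Finset.sum_eq_single k₀] at h1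
    · rw [EE_sq] at h1
      rcases smul_eq_zero.1 h1 with h2 | h2
      · exact h2
      · exact absurd h2 k₀.2
    · intro k _ hk
      rw [EE_mul_of_ne P (fun e => hk (Subtype.ext e)), smul_zero]
    · intro h
      exact absurd (Finset.mem_univ _) h
  have hspan : LinearMap.range (Theta P)
      = Submodule.span ℂ (Set.range (fun k : {χ : IrrCharacter G // EE P χ ≠ 0} => EE P k.1)) := by
    apply le_antisymm
    · rintro _ ⟨c, rfl⟩
      rw [Theta_eq_sum]
      apply Submodule.sum_mem
      intro χ _
      apply Submodule.smul_mem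
      by_cases h : EE P χ = 0
      · rw [h]
        exact Submodule.zero_mem _
      · exact Submodule.subset_span ⟨⟨χ, h⟩, rfl⟩
    · rw [Submodule.span_le]
      rintro _ ⟨k, rfl⟩
      exact ⟨Pi.single k.1 1, rfl⟩
  rw [hspan, finrank_span_eq_card hli]

end Cfsg.Agent.Lib.Helper5.Hecke
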