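import Mathlib
import Cfsg.Agent.Lib.Helper5.Hecke.Const3

/-!
# The number of constituents of `1_B^G` is the dimension of the centre of the Hecke algebra
-/

set_option autoImplicit false
set_option linter.unusedSectionVars false

namespace Cfsg.Agent.Lib.Helper5.Hecke

open Cfsg Cfsg.Agent.Lib.Helper5.BN Cfsg.Agent.Lib.Helper5.FHData Module
open Cfsg.Agent.Lib.helper3.Block Cfsg.Agent.Lib.helper3.Irr Cfsg.Agent.Lib.helper3.CharBasic
open Cfsg.Agent.Lib.helper3.IndFun
open scoped ComplexConjugate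

variable {G : Type*} [Group G] [Fintype G] (P : BNPair G) [Fintype (G ⧸ P.B)]
  [DecidableEq (G ⧸ P.B)] [Fintype (W P)] [DecidableEq (W P)]

theorem inv_AwC (w : W P) : Inv P (AwC P w) := by
  rw [← iota_single]
  exact inv_iota P _

theorem map_iota_Zc : (Zc P (qc P)).map (iota P) = LinearMap.range (Theta P) := by
  apply le_antisymm
  · rintro _ ⟨v, hv, rfl⟩
    rw [← range_Cas_qc] at hv
    obtain ⟨v', rfl⟩ := hv
    rw [iota_Cas]
    have ha : ∀ w, wt P (qc P) w * qc P w = ∏ x : W P, uw P (qc P) x := by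
      intro w
      rw [← uw_qc P w]
      exact wt_mul_uw P (qc P) w
    rw [casimir_eq_Sop P (iota P v') (wt P (qc P)) _ ha]
    have hcf : IsClassFunction G (fun g => (∏ x : W P, uw P (qc P) x) / (Nat.card P.B : ℂ)
        * trFun P (iota P v') g) := by
      intro g h
      simp only
      rw [isClassFunction_trFun P (inv_iota P v') g h]
    obtain ⟨c, hc⟩ := exists_coef_eq hcf
    exact ⟨c, by rw [Theta_apply, hc]⟩
  · rintro _ ⟨c, rfl⟩
    rw [Theta_apply]
    have hinv := inv_Sop P (isClassFunction_coef c)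
    obtain ⟨v, hv⟩ := exists_iota_of_inv P hinv
    refine ⟨v, ?_, hv⟩
    rw [SetLike.mem_coe, mem_Zc]
    intro σ hσ
    apply iota_injective P
    rw [iota_Lop P hσ, iota_Rop P hσ, hv]
    exact (Sop_mul_inv P (inv_AwC P σ) _).symm

theorem finrank_Zc_qc :
    finrank ℂ (Zc P (qc P)) = Fintype.card {χ : IrrCharacter G // EE P χ ≠ 0} := by
  rw [← finrank_range_Theta, ← map_iota_Zc]
  exact (Submodule.equivMapOfInjective (iota P) (iota_injective P) (Zc P (qc P))).finrank_eq

omit [Fintype (W P)] [DecidableEq (W P)] in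
theorem constituent_iff (χ : IrrCharacter G) :
    (∃ φ : G → ℂ, IsCharacter G φ ∧ fixedPointCharacter P.B = (χ : G → ℂ) + φ)
      ↔ EE P χ ≠ 0 := by
  have hπ : IsCharacter G (fixedPointCharacter P.B) :=
    Cfsg.Agent.Lib.helper3.PermChar.isCharacter_permChar (G ⧸ P.B)
  rw [Ne, EE_eq_zero_iff]
  constructor
  · rintro ⟨φ, hφ, e⟩
    obtain ⟨m, hm⟩ := exists_decomposition_of_isCharacter hφ
    rw [e, classInner_add_left, irr_classInner_eq χ.2 χ.2, if_pos rfl, hm,
      classInner_decomposition_left]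
    have : (1 : ℂ) + (m χ : ℂ) = ((1 + m χ : ℕ) : ℂ) := by push_cast; ring
    rw [this]
    exact Nat.cast_ne_zero.2 (by omega)
  · intro h
    exact ⟨_, isCharacter_sub_of_classInner_ne_zero hπ χ h, by simp⟩

theorem card_constituents :
    Nat.card {χ : IrrCharacter G // ∃ φ : G → ℂ, IsCharacter G φ ∧
        fixedPointCharacter P.B = (χ : G → ℂ) + φ}
      = finrank ℂ (Zc P (qc P)) := by
  classical
  rw [finrank_Zc_qc, ← Nat.card_eq_fintype_card]
  apply Nat.card_congr
  exact Equiv.subtypeEquivRight (constituent_iff P)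

end Cfsg.Agent.Lib.Helper5.Hecke
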