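import Mathlib
import Cfsg.Agent.Lib.Helper5.Hecke.Const4

/-!
# The number of irreducible constituents of `1_B^G` is the class number of the Weyl group

For every finite group with a `(B, N)`-pair.
-/

set_option autoImplicit false
set_option linter.style.haveILetI false

namespace Cfsg.Agent.Lib.Helper5.Hecke

open Cfsg Cfsg.Agent.Lib.Helper5.BN Module

/-- the number of irreducible constituents of the permutation character on `G ⧸ B` equals the
number of conjugacy classes of the Weyl group -/
theorem card_constituents_eq_card_conjClasses {G : Type*} [Group G] [Finite G] (P : BNPair G) :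
    Nat.card {χ : IrrCharacter G // ∃ φ : G → ℂ, IsCharacter G φ ∧
        fixedPointCharacter P.B = (χ : G → ℂ) + φ}
      = Nat.card (ConjClasses (W P)) := by
  classical
  letI : Fintype G := Fintype.ofFinite G
  letI : Fintype (G ⧸ P.B) := Fintype.ofFinite _
  letI : Fintype (W P) := Fintype.ofFinite _
  rw [card_constituents P, ← finrank_Zc_one P,
    finrank_Zc_eq P (qc P) (qc_conj P) (range_Cas_one P) (range_Cas_qc P)]

theorem card_conjClasses_congr {A B : Type*} [Group A] [Group B] (e : A ≃* B) :
    Nat.card (ConjClasses A) = Nat.card (ConjClasses B) := by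
  apply Nat.card_congr
  refine ⟨ConjClasses.map e.toMonoidHom, ConjClasses.map e.symm.toMonoidHom, ?_, ?_⟩
  · intro c
    obtain ⟨a, rfl⟩ := ConjClasses.mk_surjective c
    change ConjClasses.mk (e.symm (e a)) = ConjClasses.mk a
    rw [MulEquiv.symm_apply_apply]
  · intro c
    obtain ⟨a, rfl⟩ := ConjClasses.mk_surjective c
    change ConjClasses.mk (e (e.symm a)) = ConjClasses.mk a
    rw [MulEquiv.apply_symm_apply]

end Cfsg.Agent.Lib.Helper5.Hecke
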