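import Mathlib
import Cfsg.Agent.Lib.Helper5.Hecke.Main
import Cfsg.Agent.Lib.Helper5.Chev.BNPairChev
import Cfsg.Agent.Lib.Helper5.Chev.WeylIsoAll

/-!
# The Weyl group of the `(B, N)`-pair of a Chevalley group is the Coxeter group of the type
-/

set_option autoImplicit false

namespace Cfsg.Agent.Lib.Helper5.Hecke

open Cfsg Cfsg.Lie Cfsg.Agent.Lib.Helper5.BN Cfsg.Agent.Lib.Helper5.Chev

variable {F : Type*} [Field F]

theorem weyl_equiv (D : ChevalleyDatum)
    (hD : D ∈ [chevG2, chevB2, chevD4, chevF4, chevE6, chevE7, chevE8])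
    (P : BNPair ↥(D.group F))
    (hPB : P.B = (D.borelSubgroup F).subgroupOf (D.group F))
    (hPN : P.N = (D.monomialSubgroup F).subgroupOf (D.group F))
    {C : Type*} [Group C] (φ : ↥(D.monomialSubgroup F) →* C) (hs : Function.Surjective φ)
    (hk : φ.ker = (D.diagonalSubgroup F).subgroupOf (D.monomialSubgroup F)) :
    Nonempty (W P ≃* C) := by
  have hNG : D.monomialSubgroup F ≤ D.group F := (allAdd_all (F := F) D hD).monomial_le
  have hBN := (borel_inf_monomial_all (F := F) D hD).2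
  have hmem : ∀ n : P.N, ((n : ↥(D.group F)) : GL D.Idx F) ∈ D.monomialSubgroup F := by
    have key : ∀ x : ↥(D.group F), x ∈ P.N → (x : GL D.Idx F) ∈ D.monomialSubgroup F := by
      intro x hx
      rw [hPN, Subgroup.mem_subgroupOf] at hx
      exact hx
    intro n
    exact key n.1 n.2
  let ι : P.N →* ↥(D.monomialSubgroup F) :=
    ((D.group F).subtype.comp P.N.subtype).codRestrict (D.monomialSubgroup F) hmem
  let ψ : P.N →* C := φ.comp ι
  have hψs : Function.Surjective ψ := by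
    intro c
    obtain ⟨m, rfl⟩ := hs c
    have hmN : (⟨m.1, hNG m.2⟩ : ↥(D.group F)) ∈ P.N := by
      rw [hPN, Subgroup.mem_subgroupOf]
      exact m.2
    refine ⟨⟨⟨m.1, hNG m.2⟩, hmN⟩, ?_⟩
    change φ (ι ⟨⟨m.1, hNG m.2⟩, hmN⟩) = φ m
    congr 1
  have hker : T P = ψ.ker := by
    ext n
    rw [mem_T, MonoidHom.mem_ker, hPB, Subgroup.mem_subgroupOf]
    change _ ↔ φ (ι n) = 1
    rw [← MonoidHom.mem_ker, hk, Subgroup.mem_subgroupOf]
    change ((n : ↥(D.group F)) : GL D.Idx F) ∈ D.borelSubgroup F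
      ↔ ((n : ↥(D.group F)) : GL D.Idx F) ∈ D.diagonalSubgroup F
    rw [← hBN, Subgroup.mem_inf]
    exact ⟨fun h => ⟨h, hmem n⟩, fun h => h.1⟩
  exact ⟨(QuotientGroup.quotientMulEquivOfEq hker).trans
    (QuotientGroup.quotientKerEquivOfSurjective ψ hψs)⟩

end Cfsg.Agent.Lib.Helper5.Hecke
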